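import Mathlib.RingTheory.IsTensorProduct
import Mathlib.RingTheory.Ideal.Quotient.Operations

/-!
Pushouts along surjections of rings.
-/

set_option autoImplicit false

open TensorProduct

namespace K310.PushQuot

theorem isPushout_of_surjective {A A₂ P P₂ : Type*} [CommRing A] [CommRing A₂] [CommRing P]
    [CommRing P₂] [Algebra A A₂] [Algebra A P] [Algebra A P₂] [Algebra A₂ P₂] [Algebra P P₂]
    [IsScalarTower A A₂ P₂] [IsScalarTower A P P₂]
    (hA : Function.Surjective (algebraMap A A₂)) (hP : Function.Surjective (algebraMap P P₂))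
    (hk : RingHom.ker (algebraMap P P₂) ≤
      (RingHom.ker (algebraMap A A₂)).map (algebraMap A P)) : Algebra.IsPushout A A₂ P P₂ := by
  let φ : A₂ ⊗[A] P →ₗ[A₂] P₂ :=
    LinearMap.liftBaseChange A₂ (IsScalarTower.toAlgHom A P P₂).toLinearMap
  have hφ : ∀ (a : A₂) (p : P), φ (a ⊗ₜ p) = a • algebraMap P P₂ p := fun a p => by
    simp [φ]
  have h1 : ∀ x : A₂ ⊗[A] P, ∃ p : P, x = 1 ⊗ₜ p := by
    intro x
    induction x with
    | zero => exact ⟨0, by simp⟩
    | add x y hx hy =>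
      obtain ⟨p, rfl⟩ := hx
      obtain ⟨q, rfl⟩ := hy
      exact ⟨p + q, by rw [TensorProduct.tmul_add]⟩
    | tmul a p =>
      obtain ⟨a, rfl⟩ := hA a
      refine ⟨a • p, ?_⟩
      rw [TensorProduct.tmul_smul, TensorProduct.smul_tmul', Algebra.smul_def, mul_one]
  have h2 : ∀ p ∈ (RingHom.ker (algebraMap A A₂)).map (algebraMap A P),
      (1 : A₂) ⊗ₜ[A] p = 0 := by
    intro p hp
    refine Submodule.span_induction ?_ ?_ ?_ ?_ hp
    · rintro _ ⟨a, ha, rfl⟩
      have h3 : algebraMap A P a = a • (1 : P) := by rw [Algebra.smul_def, mul_one]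
      rw [h3, TensorProduct.tmul_smul, TensorProduct.smul_tmul', Algebra.smul_def, mul_one,
        (RingHom.mem_ker).1 ha, TensorProduct.zero_tmul]
    · simp
    · intro x y _ _ hx hy
      rw [TensorProduct.tmul_add, hx, hy, add_zero]
    · intro r x _ hx
      have h4 : (1 : A₂) ⊗ₜ[A] (r • x) = (1 : A₂) ⊗ₜ[A] r * (1 : A₂) ⊗ₜ[A] x := by
        rw [Algebra.TensorProduct.tmul_mul_tmul, one_mul, smul_eq_mul]
      rw [h4, hx, mul_zero]
  have hbij : Function.Bijective φ := by
    constructor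
    · rw [injective_iff_map_eq_zero]
      intro x hx
      obtain ⟨p, rfl⟩ := h1 x
      rw [hφ, one_smul] at hx
      exact h2 p (hk hx)
    · intro y
      obtain ⟨p, rfl⟩ := hP y
      exact ⟨1 ⊗ₜ p, by rw [hφ, one_smul]⟩
  refine ⟨IsBaseChange.of_equiv (LinearEquiv.ofBijective φ hbij) fun p => ?_⟩
  change φ (1 ⊗ₜ p) = _
  rw [hφ, one_smul]
  rfl

end K310.PushQuot
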