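import Groth.Agent.Flat2H.KoszulSeq
import Mathlib.LinearAlgebra.InvariantBasisNumber
import Mathlib.RingTheory.Ideal.Cotangent

/-!
The conormal module of an ideal generated by a Koszul-regular sequence has the classes of the sequence as a basis.
-/

universe u

namespace K310.CotBasis

open LCI Groth.Agent.Flat2H.KoszulSeq

variable {R : Type u} [CommRing R]

theorem exists_basis {I : Ideal R} (r : ℕ) (f : Fin r → I)
    (hf : LCI.IsKoszulRegularSeq R (List.ofFn (fun i => (f i : R))))
    (hfI : Ideal.span (Set.range (fun i => (f i : R))) = I) :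
    ∃ b : Module.Basis (Fin r) (R ⧸ I) I.Cotangent, ∀ i, b i = I.toCotangent (f i) := by
  have hI : Ideal.ofList (List.ofFn (fun i => (f i : R))) = I := by
    refine Eq.trans ?_ hfI
    rw [Ideal.ofList]
    congr 1
    ext x
    simp [List.mem_ofFn]
  have hlen : (List.ofFn (fun i => (f i : R))).length = r := List.length_ofFn
  have hlift (c : Fin r → R) : ∑ i, (Ideal.Quotient.mk I (c i)) • I.toCotangent (f i) =
      I.toCotangent (∑ i, c i • f i) := by
    rw [map_sum]
    refine Finset.sum_congr rfl fun i _ => ?_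
    rw [map_smul]
    rfl
  have hli : LinearIndependent (R ⧸ I) (fun i => I.toCotangent (f i)) := by
    rw [Fintype.linearIndependent_iff]
    intro g hg i
    choose c hc using fun i => Ideal.Quotient.mk_surjective (g i)
    obtain rfl : (fun i => Ideal.Quotient.mk I (c i)) = g := funext hc
    rw [hlift, Ideal.toCotangent_eq_zero] at hg
    have h1 : ∑ j : Fin (List.ofFn (fun i => (f i : R))).length, c (Fin.cast hlen j) *
        (List.ofFn (fun i => (f i : R))).get j ∈
          (Ideal.ofList (List.ofFn (fun i => (f i : R)))) ^ 2 := by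
      rw [hI]
      convert hg using 1
      rw [AddSubmonoidClass.coe_finsetSum]
      refine Fintype.sum_equiv (finCongr hlen) _ _ fun j => ?_
      simp
      rfl
    have h2 := coeff_mem_of_sum_mem_sq hf (fun j => c (Fin.cast hlen j)) h1 (Fin.cast hlen.symm i)
    rw [hI] at h2
    exact Ideal.Quotient.eq_zero_iff_mem.2 (by simpa using h2)
  have hsp : ⊤ ≤ Submodule.span (R ⧸ I) (Set.range fun i => I.toCotangent (f i)) := by
    rintro y -
    obtain ⟨⟨y, hy⟩, rfl⟩ := Ideal.toCotangent_surjective _ y
    obtain ⟨c, hc⟩ : ∃ c : Fin r → R, ∑ i, c i * (f i : R) = y := by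
      have hy' := hy
      rw [← hfI, Ideal.mem_span_range_iff_exists_fun] at hy'
      exact hy'
    have h3 : (⟨y, hy⟩ : I) = ∑ i, c i • f i := by
      ext
      rw [AddSubmonoidClass.coe_finsetSum]
      simp [hc]
    rw [h3, ← hlift]
    exact Submodule.sum_mem _ fun i _ =>
      Submodule.smul_mem _ _ (Submodule.subset_span ⟨i, rfl⟩)
  exact ⟨Module.Basis.mk hli hsp, fun i => Module.Basis.mk_apply hli hsp i⟩

theorem exists_basis_list {I : Ideal R} (l : List R) (hl : LCI.IsKoszulRegularSeq R l)
    (hlI : Ideal.ofList l = I) : Nonempty (Module.Basis (Fin l.length) (R ⧸ I) I.Cotangent) := by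
  have hmem : ∀ i : Fin l.length, l.get i ∈ I := fun i => by
    rw [← hlI]
    exact Ideal.subset_span (List.get_mem l i)
  have h1 : List.ofFn (fun i : Fin l.length => ((⟨l.get i, hmem i⟩ : I) : R)) = l := List.ofFn_get l
  obtain ⟨b, -⟩ := exists_basis l.length (fun i => (⟨l.get i, hmem i⟩ : I))
    (by rw [h1]; exact hl) (by
      refine Eq.trans ?_ hlI
      rw [Ideal.ofList]
      congr 1
      ext x
      simp [List.mem_iff_get])
  exact ⟨b⟩

theorem length_le {I : Ideal R} (hI : I ≠ ⊤) (l : List R) (hl : LCI.IsKoszulRegularSeq R l)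
    (hlI : Ideal.ofList l = I) (h : List R) (hh : Ideal.ofList h = I) : l.length ≤ h.length := by
  obtain ⟨b⟩ := exists_basis_list l hl hlI
  have : Nontrivial (R ⧸ I) := Ideal.Quotient.nontrivial_iff.2 hI
  have hmem : ∀ i : Fin h.length, h.get i ∈ I := fun i => by
    rw [← hh]
    exact Ideal.subset_span (List.get_mem h i)
  let φ : (Fin h.length → R ⧸ I) →ₗ[R ⧸ I] I.Cotangent :=
    Fintype.linearCombination (R ⧸ I) (fun i => I.toCotangent ⟨h.get i, hmem i⟩)
  have hφ : Function.Surjective φ := by
    rw [← LinearMap.range_eq_top, Fintype.range_linearCombination, ← top_le_iff]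
    rintro y -
    obtain ⟨⟨y, hy⟩, rfl⟩ := Ideal.toCotangent_surjective _ y
    obtain ⟨c, hc⟩ : ∃ c : Fin h.length → R, ∑ i, c i * h.get i = y := by
      have hy' := hy
      rw [← hh, ofList_eq_span_range, Ideal.mem_span_range_iff_exists_fun] at hy'
      exact hy'
    have h3 : (⟨y, hy⟩ : I) = ∑ i, c i • (⟨h.get i, hmem i⟩ : I) := by
      ext
      rw [AddSubmonoidClass.coe_finsetSum]
      simp only [Submodule.coe_smul, smul_eq_mul]
      exact hc.symm
    rw [h3, map_sum]
    refine Submodule.sum_mem _ fun i _ => ?_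
    rw [map_smul]
    exact Submodule.smul_of_tower_mem _ _ (Submodule.subset_span ⟨i, rfl⟩)
  exact le_of_fin_surjective (R ⧸ I) (b.equivFun.toLinearMap ∘ₗ φ)
    (b.equivFun.surjective.comp hφ)

end K310.CotBasis
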