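import Groth.Agent.Models.NLFlat
import Mathlib.Algebra.Homology.DerivedCategory.Ext.EnoughProjectives

/-!
Elements of the ring killing maps out of a two-term complex `C → F` with `F` projective.
-/

open CategoryTheory Limits

universe u

namespace K310.DblKill

open Groth.Agent Groth.Agent.Models Groth.Agent.Models.DoubleCx Groth.Agent.Models.NLFlat

attribute [local instance] HasDerivedCategory.standard

variable {B : Type u} [CommRing B] {X Y : ModuleCat.{u} B} (f : X ⟶ Y)

/-- The homotopy killing `g` times the projection to degree `-1`. -/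
noncomputable def projHomotopy (g : B) (h : Y ⟶ X) (hf : f ≫ h = g • 𝟙 X) :
    Homotopy (g • proj f) 0 where
  hom i j := if hij : i = 0 ∧ j = -1 then
      eqToHom (congrArg (dbl f).X hij.1) ≫ (i₁ f).hom ≫ h ≫
        (HomologicalComplex.singleObjXSelf (ComplexShape.up ℤ) (-1) X).inv ≫
        eqToHom (congrArg ((HomologicalComplex.single (ModuleCat.{u} B)
          (ComplexShape.up ℤ) (-1)).obj X).X hij.2.symm)
    else 0
  zero i j hij := dif_neg (by
    rintro ⟨rfl, rfl⟩
    exact hij (by simp))
  comm i := by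
    by_cases hi : i = -1
    · subst hi
      rw [dNext_eq _ (show (ComplexShape.up ℤ).Rel (-1) 0 by simp),
        prevD_eq _ (show (ComplexShape.up ℤ).Rel (-2) (-1) by simp)]
      rw [dif_pos ⟨rfl, rfl⟩, dif_neg (by simp), dbl_d]
      have h1 : (proj f).f (-1) =
        (i₀ f).hom ≫ (HomologicalComplex.singleObjXSelf (ComplexShape.up ℤ) (-1) X).inv := by
        simp [proj]
      rw [HomologicalComplex.smul_f_apply, h1]
      simp only [Category.assoc, Iso.inv_hom_id_assoc, eqToHom_refl, Category.comp_id,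
        Category.id_comp, HomologicalComplex.zero_f, add_zero, zero_comp]
      rw [reassoc_of% hf]
      simp
    · exact (HomologicalComplex.isZero_single_obj_X (ComplexShape.up ℤ) (-1) X i hi).eq_of_tgt _ _

lemma smul_Q_proj (g : B) (h : Y ⟶ X) (hf : f ≫ h = g • 𝟙 X) :
    g • DerivedCategory.Q.map (proj f) = 0 := by
  rw [← Functor.map_smul, DerivedCategory.Q_map_eq_of_homotopy _ (projHomotopy f g h hf),
    Functor.map_zero]

lemma smul_hom_eq_zero [Projective Y] (g : B) (h : Y ⟶ X) (hf : f ≫ h = g • 𝟙 X)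
    (N : ModuleCat.{u} B)
    (φ : DerivedCategory.Q.obj (dbl f) ⟶ ((DerivedCategory.singleFunctor (ModuleCat.{u} B) 0).obj N)⟦(1 : ℤ)⟧) :
    g • φ = 0 := by
  have h1 : DerivedCategory.Q.map (incl f) ≫ φ = 0 := by
    have h2 := DerivedCategory.from_singleFunctor_obj_eq_zero_of_projective (i := 0)
      (P := Y) (L := (CochainComplex.singleFunctor (ModuleCat.{u} B) (-1)).obj N)
      ((DerivedCategory.Q.map (incl f) ≫ φ) ≫
        ((DerivedCategory.singleFunctors (ModuleCat.{u} B)).shiftIso 1 (-1) 0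
          (by lia)).hom.app _) (-1) (by lia)
    rw [← cancel_mono (((DerivedCategory.singleFunctors (ModuleCat.{u} B)).shiftIso 1 (-1) 0
      (by lia)).hom.app _), zero_comp]
    exact h2
  obtain ⟨ψ, rfl⟩ := Pretriangulated.Triangle.yoneda_exact₂ _
    (DerivedCategory.triangleOfSES_distinguished (ses_shortExact f)) φ h1
  change g • (DerivedCategory.Q.map (proj f) ≫ ψ) = 0
  rw [← Linear.smul_comp, smul_Q_proj f g h hf, zero_comp]

lemma smul_id_eq_zero (g : B) (h : Y ⟶ X) (hf : f ≫ h = g • 𝟙 X) (hf' : h ≫ f = g • 𝟙 Y) :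
    g • 𝟙 (DerivedCategory.Q.obj (dbl f)) = 0 := by
  have h1 : g • 𝟙 (dbl f) = dblMap (f := f) (f' := f) (g • 𝟙 X) (g • 𝟙 Y) (by simp) := by
    apply HomologicalComplex.from_double_hom_ext <;> simp
  have h2 : (0 : dbl f ⟶ dbl f) = dblMap (f := f) (f' := f) 0 0 (by simp) := by
    apply HomologicalComplex.from_double_hom_ext <;> simp
  have h3 : Homotopy (g • 𝟙 (dbl f)) 0 := by
    rw [h1, h2]
    exact dblHomotopy _ _ _ _ _ _ h (by rw [hf, add_zero]) (by rw [hf', add_zero])
  rw [← DerivedCategory.Q.map_id, ← Functor.map_smul, DerivedCategory.Q_map_eq_of_homotopy _ h3,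
    Functor.map_zero]

end K310.DblKill
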