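import Groth.Agent.Models.DiagSmooth2

/-!
A version of `Models.DiagSmooth2.injective_cotangentComplexBaseChange_localization` without the finite type hypotheses.
-/

set_option autoImplicit false
universe u

open TensorProduct IsLocalRing

namespace K310.DiagEss

open Groth.Agent Groth.Agent.Models Groth.Agent.Models.DiagSmooth2

section Main

variable {A B P0 : Type u} [CommRing A] [CommRing B] [CommRing P0] [Algebra A B] [Algebra A P0]
  [IsNoetherianRing (B ⊗[A] P0)] [Module.Flat A B]
  [Algebra (B ⊗[A] B) B]

theorem injective_cotangentComplexBaseChange_localization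
    (hmul : ∀ x y : B, algebraMap (B ⊗[A] B) B (x ⊗ₜ[A] y) = x * y)
    (h : DRing.HasFiniteTorDim (B ⊗[A] B) B)
    (f₀ : P0 →ₐ[A] B) (hf₀ : Function.Surjective f₀) (q : Ideal B) [q.IsPrime] 
    (p : Ideal P0) [p.IsPrime] (hp : p = q.comap f₀)
    [Algebra (Localization.AtPrime p) (Localization.AtPrime q)]
    [IsScalarTower A (Localization.AtPrime p) (Localization.AtPrime q)]
    (halg : algebraMap (Localization.AtPrime p) (Localization.AtPrime q) = 
      Localization.localRingHom p q f₀.toRingHom hp) :
    Function.Injective (KaehlerDifferential.cotangentComplexBaseChange A (Localization.AtPrime q)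
      (Localization.AtPrime p) (ResidueField (Localization.AtPrime q))) := by
  -- notation
  let B' := Localization.AtPrime q
  let P' := Localization.AtPrime p
  let T0 := B ⊗[A] P0
  let R0 := B ⊗[A] B
  let μ : R0 →+* B := algebraMap R0 B
  let φ : T0 →ₐ[A] R0 := Algebra.TensorProduct.map (AlgHom.id A B) f₀
  let Q : Ideal R0 := q.comap μ
  let Q' : Ideal T0 := Q.comap φ
  have hφ : Function.Surjective φ := LinearMap.lTensor_surjective B hf₀
  have hμ : Function.Surjective μ := fun b => ⟨b ⊗ₜ 1, by rw [hmul, mul_one]⟩
  let R' := Localization.AtPrime Q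
  let T := Localization.AtPrime Q'
  let iR : P0 →+* T0 := (Algebra.TensorProduct.includeRight : P0 →ₐ[A] T0).toRingHom
  let iL : B →+* T0 := (Algebra.TensorProduct.includeLeft : B →ₐ[A] T0).toRingHom
  have hiR : ∀ x, μ (φ (iR x)) = f₀ x := fun x => by
    have : φ (iR x) = 1 ⊗ₜ f₀ x := rfl
    rw [this, hmul, one_mul]
  have hiL : ∀ x, μ (φ (iL x)) = x := fun x => by
    have : φ (iL x) = x ⊗ₜ 1 := by
      change x ⊗ₜ (f₀ 1) = x ⊗ₜ 1
      rw [map_one]
    rw [this, hmul, mul_one]
  have e1 : p = Q'.comap iR := by
    ext x
    rw [hp]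
    change f₀ x ∈ q ↔ μ (φ (iR x)) ∈ q
    rw [hiR]
  have e2 : q = Q'.comap iL := by
    ext x
    change x ∈ q ↔ μ (φ (iL x)) ∈ q
    rw [hiL]
  let aPT : Algebra P' T := (Localization.localRingHom p Q' iR e1).toAlgebra
  let aTR : Algebra T R' := (Localization.localRingHom Q' Q φ.toRingHom rfl).toAlgebra
  let aRB : Algebra R' B' := (Localization.localRingHom Q q μ rfl).toAlgebra
  let aTB : Algebra T B' := (Localization.localRingHom Q' q (μ.comp φ.toRingHom) rfl).toAlgebra
  have hPT : ∀ x : P0, algebraMap P' T (algebraMap P0 P' x) = algebraMap T0 T (iR x) :=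
    fun x => Localization.localRingHom_to_map _ _ _ _ _
  have hTR : ∀ x : T0, algebraMap T R' (algebraMap T0 T x) = algebraMap R0 R' (φ x) :=
    fun x => Localization.localRingHom_to_map _ _ _ _ _
  have hRB : ∀ x : R0, algebraMap R' B' (algebraMap R0 R' x) = algebraMap B B' (μ x) :=
    fun x => Localization.localRingHom_to_map _ _ _ _ _
  have hTB : ∀ x : T0, algebraMap T B' (algebraMap T0 T x) = algebraMap B B' (μ (φ x)) :=
    fun x => Localization.localRingHom_to_map _ _ _ _ _
  have hPB : ∀ x : P0, algebraMap P' B' (algebraMap P0 P' x) = algebraMap B B' (f₀ x) :=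
    fun x => by rw [halg]; exact Localization.localRingHom_to_map _ _ _ _ _
  have t1 : IsScalarTower A P' T := IsScalarTower.of_algebraMap_eq fun a => by
    rw [IsScalarTower.algebraMap_apply A P0 P', hPT, IsScalarTower.algebraMap_apply A T0 T]
    exact congrArg (algebraMap T0 T)
      ((Algebra.TensorProduct.includeRight : P0 →ₐ[A] T0).commutes a).symm
  have t2 : IsScalarTower P' T B' := IsScalarTower.of_algebraMap_eq' <| by
    apply IsLocalization.ringHom_ext p.primeCompl
    ext x
    simp only [RingHom.comp_apply]
    rw [hPB, hPT, hTB, hiR]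
  have t3 : IsScalarTower T R' B' := IsScalarTower.of_algebraMap_eq' <| by
    apply IsLocalization.ringHom_ext Q'.primeCompl
    refine RingHom.ext fun x => ?_
    simp only [RingHom.comp_apply]
    rw [hTB, hTR, hRB]
  have t4 : IsScalarTower A T B' := IsScalarTower.of_algebraMap_eq fun a => by
    rw [IsScalarTower.algebraMap_apply A T0 T, hTB, IsScalarTower.algebraMap_apply A B B',
      ← hiL (algebraMap A B a)]
    exact congrArg (fun t => algebraMap B B' (μ (φ t)))
      ((Algebra.TensorProduct.includeLeft : B →ₐ[A] T0).commutes a)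
  let s : B' →ₐ[A] T :=
    { Localization.localRingHom q Q' iL e2 with
      commutes' := fun a => by
        change Localization.localRingHom q Q' iL e2 (algebraMap A B' a) = _
        rw [IsScalarTower.algebraMap_apply A B B', Localization.localRingHom_to_map,
          IsScalarTower.algebraMap_apply A T0 T]
        exact congrArg (algebraMap T0 T)
          ((Algebra.TensorProduct.includeLeft : B →ₐ[A] T0).commutes a) }
  have hs : ∀ b, algebraMap T B' (s b) = b := by
    have : (algebraMap T B').comp (Localization.localRingHom q Q' iL e2) = RingHom.id B' := by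
      apply IsLocalization.ringHom_ext q.primeCompl
      ext x
      simp only [RingHom.comp_apply]
      rw [Localization.localRingHom_to_map, hTB, hiL]
      rfl
    intro b
    exact congrArg (fun f : B' →+* B' => f b) this
  have f1 : IsLocalHom (algebraMap P' T) := Localization.isLocalHom_localRingHom _ _ _ _
  have f2 : Module.Flat P' T := by
    let a1 : Algebra P0 T0 := Algebra.TensorProduct.rightAlgebra
    have t6 : IsScalarTower P0 P' T := IsScalarTower.of_algebraMap_eq fun x => (hPT x).symm
    have fl1 : Module.Flat P0 T0 :=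
      Module.Flat.of_linearEquiv (M := P0 ⊗[A] B)
        (Algebra.TensorProduct.commRight A P0 B).symm.toLinearEquiv
    have fl2 : Module.Flat P0 T := Module.Flat.trans P0 T0 T
    exact (Module.flat_iff_of_isLocalization P' p.primeCompl T).2 fl2
  have f3 : IsNoetherianRing T := by
    have : IsNoetherianRing T0 := inferInstance
    exact IsLocalization.isNoetherianRing Q'.primeCompl _ this
  have g1 : Function.Surjective (algebraMap P' B') := by
    rw [halg]
    exact localRingHom_surjective _ _ _ _ hf₀
  have g2 : Function.Surjective (algebraMap T R') := localRingHom_surjective _ _ _ _ hφ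
  have g3 : Function.Surjective (algebraMap R' B') := localRingHom_surjective _ _ _ _ hμ
  have hker : RingHom.ker (algebraMap T R') =
      (RingHom.ker (algebraMap P' B')).map (algebraMap P' T) := by
    have k1 : RingHom.ker (algebraMap T R') = (RingHom.ker φ).map (algebraMap T0 T) :=
      ker_localRingHom _ _ _ _ hφ
    have k2 : RingHom.ker (algebraMap P' B') = (RingHom.ker f₀).map (algebraMap P0 P') := by
      rw [halg]
      exact ker_localRingHom _ _ _ _ hf₀
    have k3 : RingHom.ker φ = (RingHom.ker f₀).map iR :=
      Algebra.TensorProduct.lTensor_ker f₀ hf₀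
    rw [k1, k2, k3, Ideal.map_map, Ideal.map_map]
    congr 1
    ext x
    exact (hPT x).symm
  have hfd : DRing.HasFiniteTorDim R' B' := by
    have t7 : IsScalarTower R0 R' B' := IsScalarTower.of_algebraMap_eq fun x => by
      rw [hRB, IsScalarTower.algebraMap_apply R0 B B']
    have il : IsLocalizedModule Q.primeCompl (IsScalarTower.toAlgHom R0 B B').toLinearMap := by
      rw [isLocalizedModule_iff_isLocalization]
      have : Algebra.algebraMapSubmonoid B Q.primeCompl = q.primeCompl :=
        map_primeCompl_eq Q q μ rfl hμ
      rw [this]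
      infer_instance
    exact TorLoc.hasFiniteTorDim_of_isLocalizedModule (B := R') Q.primeCompl
      (IsScalarTower.toAlgHom R0 B B').toLinearMap h
  refine DiagSmooth.injective_cotangentComplexBaseChange (A := A) (P := P') (B := B') (T := T)
    s hs g1 ?_
  rw [← hker]
  exact fun x hx hx' => CoreSurj.mem_maximalIdeal_mul_ker (T := T) (R := R') (S := B')
    g2 g3 hfd x hx hx'

end Main

end K310.DiagEss
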