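import Groth.Agent.LCI.K310.DiagEss
import Mathlib.RingTheory.Smooth.Locus
import Mathlib.RingTheory.EssentialFiniteness
import Mathlib.RingTheory.Localization.Submodule
import Mathlib.RingTheory.Smooth.Local
import Mathlib.RingTheory.LocalRing.Module

/-!
A flat local essentially finite type algebra with perfect diagonal is a localization of a smooth one.
-/

set_option autoImplicit false
universe u

open TensorProduct IsLocalRing

namespace K310.DiagEss2

open Groth.Agent Groth.Agent.Models

/-- `B` local, flat, with perfect diagonal, quotient of a formally smooth local essentially finite type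
algebra: `B` is formally smooth. -/
theorem formallySmooth {A B P0 : Type u} [CommRing A] [CommRing B] [CommRing P0] [Algebra A B]
    [Algebra A P0] [IsNoetherianRing A] [IsNoetherianRing B] [IsLocalRing B] [Module.Flat A B]
    [Algebra (B ⊗[A] B) B] [Algebra.EssFiniteType A P0] [Algebra.FormallySmooth A P0]
    (hmul : ∀ x y : B, algebraMap (B ⊗[A] B) B (x ⊗ₜ[A] y) = x * y)
    (h : DRing.HasFiniteTorDim (B ⊗[A] B) B)
    (f₀ : P0 →ₐ[A] B) (hf₀ : Function.Surjective f₀) : Algebra.FormallySmooth A B := by
  let q : Ideal B := maximalIdeal B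
  let p : Ideal P0 := q.comap f₀
  let B' := Localization.AtPrime q
  let P' := Localization.AtPrime p
  let aPB : Algebra P' B' := (Localization.localRingHom p q f₀.toRingHom rfl).toAlgebra
  have hPB : ∀ x : P0, algebraMap P' B' (algebraMap P0 P' x) = algebraMap B B' (f₀ x) :=
    fun x => Localization.localRingHom_to_map _ _ _ _ _
  have t1 : IsScalarTower A P' B' := IsScalarTower.of_algebraMap_eq fun a => by
    rw [IsScalarTower.algebraMap_apply A P0 P', hPB, IsScalarTower.algebraMap_apply A B B',
      AlgHom.commutes]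
  have : Algebra.FormallyEtale P0 P' := .of_isLocalization p.primeCompl
  have : Algebra.FormallySmooth A P' := .comp _ P0 _
  have : Algebra.EssFiniteType A P' := inferInstance
  have : Module.Finite P' Ω[P'⁄A] := inferInstance
  have : Module.Projective P' Ω[P'⁄A] := inferInstance
  have : Module.Free P' Ω[P'⁄A] := Module.free_of_flat_of_isLocalRing
  have hsurj : Function.Surjective (algebraMap P' B') :=
    Models.DiagSmooth2.localRingHom_surjective _ _ _ _ hf₀
  have hN0 : IsNoetherianRing P0 := Algebra.EssFiniteType.isNoetherianRing A P0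
  have hfg : (RingHom.ker (algebraMap P' B')).FG := by
    have h1 : IsNoetherianRing P' := IsLocalization.isNoetherianRing p.primeCompl _ inferInstance
    exact (isNoetherianRing_iff_ideal_fg _).1 h1 _
  have hT : IsNoetherianRing (B ⊗[A] P0) := Algebra.EssFiniteType.isNoetherianRing B (B ⊗[A] P0)
  have h1 : Algebra.FormallySmooth A B' := by
    rw [Algebra.FormallySmooth.iff_injective_cotangentComplexBaseChange_residueField P' hsurj hfg]
    exact DiagEss.injective_cotangentComplexBaseChange_localization hmul h f₀ hf₀ q p rfl rfl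
  let e : B ≃ₐ[B] B' := IsLocalization.atUnits B q.primeCompl (fun x hx => by
    by_contra h2
    exact hx ((mem_maximalIdeal x).2 h2))
  exact Algebra.FormallySmooth.of_equiv (e.symm.restrictScalars A)

/-- A local ring essentially of finite type is a localization of a finite type algebra at a prime. -/
theorem exists_finiteType (A B : Type u) [CommRing A] [CommRing B] [Algebra A B] [IsLocalRing B]
    [Algebra.EssFiniteType A B] : ∃ (C : Type u) (_ : CommRing C) (_ : Algebra A C)
      (_ : Algebra C B) (_ : IsScalarTower A C B) (q : Ideal C) (_ : q.IsPrime),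
      Algebra.FiniteType A C ∧ IsLocalization.AtPrime B q := by
  let C := Algebra.EssFiniteType.subalgebra A B
  let q : Ideal C := (maximalIdeal B).comap (algebraMap C B)
  have hq : q.IsPrime := Ideal.comap_isPrime _ _
  refine ⟨C, inferInstance, inferInstance, inferInstance, inferInstance, q, hq, inferInstance, ?_⟩
  have h1 : Algebra.EssFiniteType.submonoid A B = q.primeCompl := by
    ext x
    change IsUnit (algebraMap C B x) ↔ ¬ (algebraMap C B x ∈ maximalIdeal B)
    rw [mem_maximalIdeal, mem_nonunits_iff, not_not]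
  change IsLocalization q.primeCompl B
  rw [← h1]
  infer_instance

theorem exists_surjective {A B C : Type u} [CommRing A] [CommRing B] [CommRing C] [Algebra A B]
    [Algebra A C] [Algebra C B] [IsScalarTower A C B] [IsLocalRing B] [Algebra.FiniteType A C]
    (q : Ideal C) [q.IsPrime] [IsLocalization.AtPrime B q] :
    ∃ (P0 : Type u) (_ : CommRing P0) (_ : Algebra A P0) (f₀ : P0 →ₐ[A] B),
      Algebra.EssFiniteType A P0 ∧ Algebra.FormallySmooth A P0 ∧ Function.Surjective f₀ := by
  obtain ⟨n, g, hg⟩ := Algebra.FiniteType.iff_quotient_mvPolynomial''.mp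
    (inferInstance : Algebra.FiniteType A C)
  let γ : MvPolynomial (Fin n) A →ₐ[A] B := (IsScalarTower.toAlgHom A C B).comp g
  let p : Ideal (MvPolynomial (Fin n) A) := q.comap g.toRingHom
  have hp : p.IsPrime := Ideal.comap_isPrime _ _
  let P0 := Localization.AtPrime p
  have hu : ∀ y : p.primeCompl, IsUnit (γ y) := fun y =>
    IsLocalization.map_units B (⟨g y, y.2⟩ : q.primeCompl)
  let f₀ : P0 →ₐ[A] B := IsLocalization.liftAlgHom (M := p.primeCompl) (f := γ) hu
  have hf : ∀ x, f₀ (algebraMap _ P0 x) = γ x := fun x => IsLocalization.lift_eq _ _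
  refine ⟨P0, inferInstance, inferInstance, f₀, inferInstance, ?_, ?_⟩
  · have : Algebra.FormallyEtale (MvPolynomial (Fin n) A) P0 := .of_isLocalization p.primeCompl
    exact .comp _ (MvPolynomial (Fin n) A) _
  · intro b
    obtain ⟨c, s, rfl⟩ := IsLocalization.exists_mk'_eq q.primeCompl b
    obtain ⟨x, rfl⟩ := hg c
    obtain ⟨y, hy⟩ := hg s.1
    have hyp : y ∈ p.primeCompl := by
      change ¬ (g y ∈ q)
      rw [hy]
      exact s.2
    refine ⟨IsLocalization.mk' P0 x ⟨y, hyp⟩, ?_⟩
    symm
    rw [IsLocalization.mk'_eq_iff_eq_mul]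
    have h1 : algebraMap C B (s : C) = f₀ (algebraMap _ P0 y) := by
      rw [hf, ← hy]
      rfl
    rw [h1, ← map_mul, IsLocalization.mk'_spec, hf]
    rfl

theorem main {A B : Type u} [CommRing A] [CommRing B]
    [Algebra A B] [IsNoetherianRing A] [IsNoetherianRing B] [IsLocalRing B]
    [Module.Flat A B] [Algebra.EssFiniteType A B]
    [Algebra (B ⊗[A] B) B]
    (hmul : ∀ x y : B, algebraMap (B ⊗[A] B) B (x ⊗ₜ[A] y) = x * y)
    (h : DRing.HasFiniteTorDim (B ⊗[A] B) B) :
    ∃ (C : Type u) (_ : CommRing C) (_ : Algebra A C) (_ : Algebra C B) (_ : IsScalarTower A C B)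
      (q : Ideal C) (_ : q.IsPrime), Algebra.Smooth A C ∧ IsLocalization.AtPrime B q := by
  obtain ⟨C₀, _, _, _, _, q₀, _, hft, hloc⟩ := exists_finiteType A B
  obtain ⟨P0, _, _, f₀, _, _, hf₀⟩ := exists_surjective (A := A) (B := B) q₀
  have hfs : Algebra.FormallySmooth A B := formallySmooth hmul h f₀ hf₀
  have hfp : Algebra.FinitePresentation A C₀ := Algebra.FinitePresentation.of_finiteType.1 hft
  have hsm : Algebra.IsSmoothAt A q₀ := by
    let e : Localization.AtPrime q₀ ≃ₐ[C₀] B := IsLocalization.algEquiv q₀.primeCompl _ _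
    exact Algebra.FormallySmooth.of_equiv (e.symm.restrictScalars A)
  obtain ⟨c, hc, hcs⟩ := Algebra.IsSmoothAt.exists_notMem_smooth (R := A) q₀
  have hcu : IsUnit (algebraMap C₀ B c) := IsLocalization.map_units B (⟨c, hc⟩ : q₀.primeCompl)
  let C := Localization.Away c
  let φ : C →+* B := IsLocalization.Away.lift c hcu
  let _ : Algebra C B := φ.toAlgebra
  have t1 : IsScalarTower C₀ C B := IsScalarTower.of_algebraMap_eq fun x =>
    (IsLocalization.Away.lift_eq c hcu x).symm
  have t2 : IsScalarTower A C B := IsScalarTower.of_algebraMap_eq fun a => by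
    rw [IsScalarTower.algebraMap_apply A C₀ B, IsScalarTower.algebraMap_apply C₀ C B,
      ← IsScalarTower.algebraMap_apply A C₀ C]
  let q : Ideal C := (maximalIdeal B).comap (algebraMap C B)
  have hq : q.IsPrime := Ideal.comap_isPrime _ _
  refine ⟨C, inferInstance, inferInstance, inferInstance, t2, q, hq, hcs, ?_⟩
  have hle : Submonoid.powers c ≤ q₀.primeCompl := by
    rw [Submonoid.powers_le]
    exact hc
  have h1 : IsLocalization (q₀.primeCompl.map (algebraMap C₀ C)) B :=
    IsLocalization.isLocalization_of_submonoid_le C B (Submonoid.powers c) q₀.primeCompl hle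
  refine IsLocalization.of_le (q₀.primeCompl.map (algebraMap C₀ C)) q.primeCompl ?_ ?_
  · rintro _ ⟨x, hx, rfl⟩ hxq
    have h2 : algebraMap C₀ B x ∈ maximalIdeal B := by
      rw [IsScalarTower.algebraMap_apply C₀ C B]
      exact hxq
    exact h2 (IsLocalization.map_units B (⟨x, hx⟩ : q₀.primeCompl))
  · intro r hr
    by_contra h2
    exact hr ((mem_maximalIdeal _).2 h2)

end K310.DiagEss2
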