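import Groth.Agent.LCI.K310.KoszulLift
import Groth.Agent.LCI.K310.PushQuot
import Groth.Agent.Models.GoodFact
import Mathlib.RingTheory.Artinian.Ring
import Mathlib.RingTheory.Nakayama

/-!
Lifting Koszul-regular sequences with flat quotient over Artinian local rings.
-/

set_option autoImplicit false
universe u

namespace K310.FlatLift

open Groth.Agent

theorem isNilpotent_maximalIdeal (A : Type*) [CommRing A] [IsLocalRing A] [IsArtinianRing A] :
    IsNilpotent (IsLocalRing.maximalIdeal A) := by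
  rw [← IsLocalRing.jacobson_eq_maximalIdeal (⊥ : Ideal A) bot_ne_top]
  exact IsArtinianRing.isNilpotent_jacobson_bot

theorem ofList_ofFn {R : Type*} [CommRing R] {r : ℕ} (f : Fin r → R) :
    Ideal.ofList (List.ofFn f) = Ideal.span (Set.range f) := by
  rw [Ideal.ofList]
  congr 1
  ext x
  simp [List.mem_ofFn]

/-- base change along a surjection, abstract form -/
theorem isKoszulRegularSeq_map_of_surjective {A A₂ P P₂ : Type u} [CommRing A] [CommRing A₂]
    [CommRing P]
    [CommRing P₂] [Algebra A A₂] [Algebra A P] [Algebra A P₂] [Algebra A₂ P₂] [Algebra P P₂]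
    [IsScalarTower A A₂ P₂] [IsScalarTower A P P₂]
    (hA : Function.Surjective (algebraMap A A₂)) (hP : Function.Surjective (algebraMap P P₂))
    (hk : RingHom.ker (algebraMap P P₂) ≤
      (RingHom.ker (algebraMap A A₂)).map (algebraMap A P)) [Module.Flat A P] (l : List P)
    [Module.Flat A (P ⧸ Ideal.ofList l)] (hl : LCI.IsKoszulRegularSeq P l) :
    LCI.IsKoszulRegularSeq P₂ (l.map (algebraMap P P₂)) := by
  have := PushQuot.isPushout_of_surjective hA hP hk
  exact Models.KoszulBC2.isKoszulRegularSeq_map A A₂ l hl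

section

variable {A' : Type u} [CommRing A'] [IsLocalRing A'] [IsArtinianRing A'] (I : Ideal A')
  {R' : Type u} [CommRing R'] [Algebra A' R'] [Module.Flat A' R']

theorem part_one (hI : I ≠ ⊤) (l : List R')
    (hf : LCI.IsKoszulRegularSeq (R' ⧸ I.map (algebraMap A' R'))
      (l.map (Ideal.Quotient.mk (I.map (algebraMap A' R')))))
    [Module.Flat (A' ⧸ I) ((R' ⧸ I.map (algebraMap A' R')) ⧸
      Ideal.ofList (l.map (Ideal.Quotient.mk (I.map (algebraMap A' R')))))] :
    LCI.IsKoszulRegularSeq R' l ∧ Module.Flat A' (R' ⧸ Ideal.ofList l) := by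
  set m := IsLocalRing.maximalIdeal A' with hm
  have hIm : I ≤ m := IsLocalRing.le_maximalIdeal hI
  let P₂ := R' ⧸ m.map (algebraMap A' R')
  let i1 : Algebra (A' ⧸ I) (A' ⧸ m) := (Ideal.Quotient.factor hIm).toAlgebra
  let i2 : Algebra (R' ⧸ I.map (algebraMap A' R')) P₂ :=
    (Ideal.Quotient.factor (Ideal.map_mono hIm)).toAlgebra
  let i3 : Algebra (A' ⧸ I) P₂ :=
    ((algebraMap (A' ⧸ m) P₂).comp (algebraMap (A' ⧸ I) (A' ⧸ m))).toAlgebra
  have t1 : IsScalarTower (A' ⧸ I) (A' ⧸ m) P₂ := IsScalarTower.of_algebraMap_eq fun _ => rfl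
  have t2 : IsScalarTower (A' ⧸ I) (R' ⧸ I.map (algebraMap A' R')) P₂ :=
    IsScalarTower.of_algebraMap_eq fun a => by
      obtain ⟨a, rfl⟩ := Ideal.Quotient.mk_surjective a
      rfl
  have hfl : Module.Flat (A' ⧸ I) (R' ⧸ I.map (algebraMap A' R')) := by
    have := PushQuot.isPushout_of_surjective (A := A') (A₂ := A' ⧸ I) (P := R')
      (P₂ := R' ⧸ I.map (algebraMap A' R')) Ideal.Quotient.mk_surjective
      Ideal.Quotient.mk_surjective (by
        change RingHom.ker (Ideal.Quotient.mk _) ≤ (RingHom.ker (Ideal.Quotient.mk _)).map _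
        rw [Ideal.mk_ker, Ideal.mk_ker])
    exact Module.Flat.isBaseChange A' (A' ⧸ I) R' _ this.out
  have h1 : LCI.IsKoszulRegularSeq P₂
      ((l.map (Ideal.Quotient.mk (I.map (algebraMap A' R')))).map
        (algebraMap (R' ⧸ I.map (algebraMap A' R')) P₂)) := by
    refine isKoszulRegularSeq_map_of_surjective (A := A' ⧸ I) (A₂ := A' ⧸ m) ?_ ?_ ?_ _ hf
    · exact Ideal.Quotient.factor_surjective hIm
    · exact Ideal.Quotient.factor_surjective (Ideal.map_mono hIm)
    · intro x hx
      obtain ⟨x, rfl⟩ := Ideal.Quotient.mk_surjective x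
      have hx' : x ∈ m.map (algebraMap A' R') := Ideal.Quotient.eq_zero_iff_mem.1 hx
      have h2 : Ideal.Quotient.mk (I.map (algebraMap A' R')) x ∈
          (m.map (algebraMap A' R')).map (Ideal.Quotient.mk (I.map (algebraMap A' R'))) :=
        Ideal.mem_map_of_mem _ hx'
      rw [Ideal.map_map] at h2
      have h3 : (Ideal.Quotient.mk (I.map (algebraMap A' R'))).comp (algebraMap A' R') =
          (algebraMap (A' ⧸ I) (R' ⧸ I.map (algebraMap A' R'))).comp (Ideal.Quotient.mk I) := rfl
      rw [h3, ← Ideal.map_map] at h2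
      refine Ideal.map_mono ?_ h2
      rw [Ideal.map_le_iff_le_comap]
      intro a ha
      change Ideal.Quotient.factor hIm (Ideal.Quotient.mk I a) = 0
      rw [Ideal.Quotient.factor_mk]
      exact Ideal.Quotient.eq_zero_iff_mem.2 ha
  have h2 : LCI.IsKoszulRegularSeq P₂ (l.map (algebraMap R' P₂)) := by
    rw [List.map_map] at h1
    exact h1
  have h3 : Algebra.IsPushout A' (A' ⧸ m) R' P₂ :=
    PushQuot.isPushout_of_surjective Ideal.Quotient.mk_surjective
      Ideal.Quotient.mk_surjective (by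
        change RingHom.ker (Ideal.Quotient.mk _) ≤ (RingHom.ker (Ideal.Quotient.mk _)).map _
        rw [Ideal.mk_ker, Ideal.mk_ker])
  exact KoszulLift.lift m (isNilpotent_maximalIdeal A') l h2

theorem part_two [IsNoetherianRing R'] (hI : I ≠ ⊤) (r : ℕ) (f : Fin r → R' ⧸ I.map (algebraMap A' R'))
    (J' : Ideal R') [Module.Flat A' (R' ⧸ J')]
    (hJ : J'.map (Ideal.Quotient.mk (I.map (algebraMap A' R'))) = Ideal.span (Set.range f))
    (f' : Fin r → R') (hf'J : ∀ i, f' i ∈ J')
    (hf' : ∀ i, Ideal.Quotient.mk (I.map (algebraMap A' R')) (f' i) = f i) :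
    J' = Ideal.span (Set.range f') := by
  have hle : Ideal.span (Set.range f') ≤ J' := by
    rw [Ideal.span_le]
    rintro _ ⟨i, rfl⟩
    exact hf'J i
  refine le_antisymm ?_ hle
  have hnil : IsNilpotent (I.map (algebraMap A' R')) := by
    obtain ⟨n, hn⟩ := isNilpotent_maximalIdeal A'
    refine ⟨n, ?_⟩
    rw [← Ideal.map_pow]
    have : I ^ n ≤ ⊥ := (Ideal.pow_right_mono (IsLocalRing.le_maximalIdeal hI) n).trans hn.le
    rw [le_bot_iff.1 this, Ideal.map_bot]
    rfl
  have hjac : I.map (algebraMap A' R') ≤ Ideal.jacobson ⊥ := by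
    intro x hx
    have h1 : IsNilpotent x := by
      obtain ⟨n, hn⟩ := hnil
      refine ⟨n, ?_⟩
      have := Ideal.pow_mem_pow hx n
      rw [hn] at this
      exact this
    exact Ideal.radical_le_jacobson (by
      obtain ⟨n, hn⟩ := h1
      exact ⟨n, by rw [hn]; exact zero_mem _⟩)
  refine Submodule.le_of_le_smul_of_le_jacobson_bot (IsNoetherian.noetherian J') hjac ?_
  intro x hx
  have h1 : Ideal.Quotient.mk (I.map (algebraMap A' R')) x ∈ Ideal.span (Set.range f) := by
    rw [← hJ]
    exact Ideal.mem_map_of_mem _ hx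
  have h2 : Ideal.span (Set.range f) = (Ideal.span (Set.range f')).map
      (Ideal.Quotient.mk (I.map (algebraMap A' R'))) := by
    rw [Ideal.map_span, ← Set.range_comp]
    congr 2
    ext i
    exact (hf' i).symm
  rw [h2, Ideal.mem_map_iff_of_surjective _ Ideal.Quotient.mk_surjective] at h1
  obtain ⟨y, hy, hxy⟩ := h1
  have h3 : x - y ∈ J' ⊓ I.map (algebraMap A' R') :=
    ⟨Ideal.sub_mem _ hx (hle hy), by
      change x - y ∈ Ideal.map (algebraMap A' R') I
      rw [← Ideal.Quotient.eq_zero_iff_mem, map_sub, hxy, sub_self]⟩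
  have h4 := Models.GoodFact.ker_inf_map_le (Ideal.Quotient.mkₐ A' J')
    Ideal.Quotient.mk_surjective I
  have h5 : RingHom.ker (Ideal.Quotient.mkₐ A' J') = J' := by
    change RingHom.ker (Ideal.Quotient.mk J') = J'
    rw [Ideal.mk_ker]
  rw [h5] at h4
  have h6 : x = y + (x - y) := by ring
  rw [h6]
  exact Submodule.add_mem_sup hy (h4 h3)

end

end K310.FlatLift
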