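import Groth.Agent.LCI.K310.DblKill
import Groth.Agent.Models.NLMain
import Mathlib.LinearAlgebra.Matrix.Adjugate

/-!
The Jacobian determinant kills the naive cotangent complex.
-/

open CategoryTheory Limits

universe u

namespace K310.JacKill

open Groth.Agent Groth.Agent.Models Groth.Agent.Models.DoubleCx Groth.Agent.Models.NLBasic

attribute [local instance] HasDerivedCategory.standard

section

variable {A B : Type u} [CommRing A] [CommRing B] [Algebra A B] {n m : ℕ}
  (P : Algebra.Generators A B (Fin n)) (f : Fin m → MvPolynomial (Fin n) A)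
  (hP : ∀ x : MvPolynomial (Fin n) A, x ∈ P.toExtension.ker ↔ x ∈ Ideal.span (Set.range f))

include hP in
lemma mem_ker (j : Fin m) : f j ∈ P.toExtension.ker :=
  (hP _).2 (Ideal.subset_span ⟨j, rfl⟩)

/-- The class of `f j` in `I/I²`. -/
noncomputable def cls (j : Fin m) : P.toExtension.Cotangent :=
  Algebra.Extension.Cotangent.mk ⟨f j, mem_ker P f hP j⟩

/-- The Jacobian matrix in the quotient. -/
noncomputable def jac (hmn : m ≤ n) : Matrix (Fin m) (Fin m) B :=
  Matrix.of fun i j => MvPolynomial.aeval P.val (MvPolynomial.pderiv (Fin.castLE hmn i) (f j))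

lemma cotangentComplex_cls (j : Fin m) : P.toExtension.cotangentComplex (cls P f hP j) =
    ∑ k, MvPolynomial.aeval P.val (MvPolynomial.pderiv k (f j)) • P.cotangentSpaceBasis k := by
  apply P.cotangentSpaceBasis.repr.injective
  ext k
  rw [cls, Algebra.Extension.cotangentComplex_mk]
  refine (P.cotangentSpaceBasis_repr_one_tmul _ _).trans ?_
  rw [map_sum, Finsupp.finsetSum_apply]
  simp [Finsupp.single_apply]

/-- The contracting map. -/
noncomputable def contr (hmn : m ≤ n) : P.toExtension.CotangentSpace →ₗ[B] P.toExtension.Cotangent :=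
  P.cotangentSpaceBasis.constr B
    (fun k => if hk : (k : ℕ) < m then ∑ l, (jac P f hmn).adjugate l ⟨k, hk⟩ • cls P f hP l else 0)

lemma contr_castLE (hmn : m ≤ n) (i : Fin m) :
    contr P f hP hmn (P.cotangentSpaceBasis (Fin.castLE hmn i)) =
      ∑ l, (jac P f hmn).adjugate l i • cls P f hP l := by
  rw [contr, Module.Basis.constr_basis, dif_pos (by simp)]
  rfl

lemma contr_of_not (hmn : m ≤ n) (k : Fin n) (hk : k ∉ Set.range (Fin.castLE hmn)) :
    contr P f hP hmn (P.cotangentSpaceBasis k) = 0 := by
  rw [contr, Module.Basis.constr_basis, dif_neg]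
  intro h
  exact hk ⟨⟨k, h⟩, rfl⟩

lemma contr_cls (hmn : m ≤ n) (j : Fin m) :
    contr P f hP hmn (P.toExtension.cotangentComplex (cls P f hP j)) =
      (jac P f hmn).det • cls P f hP j := by
  rw [cotangentComplex_cls, map_sum]
  rw [← Fintype.sum_of_injective (Fin.castLE hmn) (Fin.castLE_injective hmn)
    (fun i => (jac P f hmn) i j • ∑ l, (jac P f hmn).adjugate l i • cls P f hP l)]
  · simp only [Finset.smul_sum, smul_smul]
    rw [Finset.sum_comm]
    simp only [← Finset.sum_smul]
    have h1 : ∀ l, ∑ i, (jac P f hmn) i j * (jac P f hmn).adjugate l i =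
        if l = j then (jac P f hmn).det else 0 := by
      intro l
      have := congrFun (congrFun (Matrix.adjugate_mul (jac P f hmn)) l) j
      rw [Matrix.mul_apply, Matrix.smul_apply, Matrix.one_apply] at this
      simp only [mul_comm ((jac P f hmn) _ j)]
      rw [this]
      split_ifs <;> simp
    rw [Finset.sum_eq_single j]
    · rw [h1, if_pos rfl]
    · intro l _ hl
      rw [h1, if_neg hl, zero_smul]
    · intro hj
      exact absurd (Finset.mem_univ j) hj
  · intro k hk
    rw [map_smul, contr_of_not P f hP hmn k hk, smul_zero]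
  · intro i
    rw [map_smul, contr_castLE]
    rfl

lemma contr_comp (hmn : m ≤ n) (x : P.toExtension.Cotangent) :
    contr P f hP hmn (P.toExtension.cotangentComplex x) = (jac P f hmn).det • x := by
  obtain ⟨⟨y, hy⟩, rfl⟩ := Algebra.Extension.Cotangent.mk_surjective x
  let f' : Fin m → P.toExtension.Ring := f
  obtain ⟨c, hc⟩ : ∃ c : Fin m → P.toExtension.Ring, ∑ i, c i * f' i = y :=
    Ideal.mem_span_range_iff_exists_fun.1 ((hP y).1 hy)
  have h1 : (⟨y, hy⟩ : P.toExtension.ker) =
      ∑ i, c i • (⟨f i, mem_ker P f hP i⟩ : P.toExtension.ker) := by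
    ext
    rw [AddSubmonoidClass.coe_finsetSum]
    exact hc.symm
  rw [h1, map_sum, map_sum, map_sum, Finset.smul_sum]
  refine Finset.sum_congr rfl fun i _ => ?_
  rw [map_smul]
  have h2 := contr_cls P f hP hmn i
  rw [cls] at h2
  rw [LinearMap.map_smul_of_tower, LinearMap.map_smul_of_tower, h2, smul_comm]

end

section

variable {A B : Type u} [CommRing A] [CommRing B] [Algebra A B] {n : ℕ}
  (P : Algebra.Generators A B (Fin n)) (f : Fin n → MvPolynomial (Fin n) A)
  (hP : ∀ x : MvPolynomial (Fin n) A, x ∈ P.toExtension.ker ↔ x ∈ Ideal.span (Set.range f))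

lemma comp_contr (h : n ≤ n)
    (x : P.toExtension.CotangentSpace) :
    P.toExtension.cotangentComplex (contr P f hP h x) = (jac P f h).det • x := by
  have : P.toExtension.cotangentComplex ∘ₗ contr P f hP h =
      (jac P f h).det • LinearMap.id := by
    apply P.cotangentSpaceBasis.ext
    intro i
    rw [LinearMap.comp_apply]
    have h0 := contr_castLE P f hP h i
    rw [show Fin.castLE h i = i from rfl] at h0
    have h3 : P.toExtension.cotangentComplex (∑ l, (jac P f h).adjugate l i • cls P f hP l) =
        ∑ k, (∑ l, (jac P f h).adjugate l i *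
        MvPolynomial.aeval P.val (MvPolynomial.pderiv k (f l))) • P.cotangentSpaceBasis k := by
      rw [map_sum]
      have h4 : ∀ l, P.toExtension.cotangentComplex ((jac P f h).adjugate l i • cls P f hP l) =
          ∑ k, ((jac P f h).adjugate l i *
        MvPolynomial.aeval P.val (MvPolynomial.pderiv k (f l))) • P.cotangentSpaceBasis k := by
        intro l
        rw [map_smul, cotangentComplex_cls, Finset.smul_sum]
        exact Finset.sum_congr rfl fun k _ => smul_smul _ _ _
      rw [Finset.sum_congr rfl fun l _ => h4 l, Finset.sum_comm]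
      exact Finset.sum_congr rfl fun k _ => (Finset.sum_smul).symm
    rw [h0, h3]
    have h1 : ∀ k, ∑ l, (jac P f h).adjugate l i *
        MvPolynomial.aeval P.val (MvPolynomial.pderiv k (f l)) =
        if k = i then (jac P f h).det else 0 := by
      intro k
      have := congrFun (congrFun (Matrix.mul_adjugate (jac P f h)) k) i
      rw [Matrix.mul_apply, Matrix.smul_apply, Matrix.one_apply] at this
      have h2 : ∑ l, (jac P f h).adjugate l i *
          MvPolynomial.aeval P.val (MvPolynomial.pderiv k (f l)) =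
          ∑ l, (jac P f h) k l * (jac P f h).adjugate l i := by
        refine Finset.sum_congr rfl fun l _ => ?_
        rw [mul_comm]
        rfl
      rw [h2, this]
      split_ifs <;> simp
    rw [Finset.sum_eq_single i]
    · rw [h1, if_pos rfl]
      rfl
    · intro l _ hl
      rw [h1, if_neg hl, zero_smul]
    · intro hj
      exact absurd (Finset.mem_univ i) hj
  exact LinearMap.congr_fun this x

end

section

variable {A B : Type u} [CommRing A] [CommRing B] [Algebra A B] {n m : ℕ}

theorem smul_hom_eq_zero (P : Algebra.Generators A B (Fin n)) (f : Fin m → MvPolynomial (Fin n) A)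
    (hP : ∀ x : MvPolynomial (Fin n) A, x ∈ P.toExtension.ker ↔ x ∈ Ideal.span (Set.range f))
    (hmn : m ≤ n) (N : Type u) [AddCommGroup N] [Module B N]
    (φ : LCI.NL A B ⟶ (Dual.inD B N)⟦(1 : ℤ)⟧) : (jac P f hmn).det • φ = 0 := by
  have h1 := DblKill.smul_hom_eq_zero (ModuleCat.ofHom P.toExtension.cotangentComplex)
    (jac P f hmn).det (ModuleCat.ofHom (contr P f hP hmn))
    (ModuleCat.hom_ext (LinearMap.ext fun x => contr_comp P f hP hmn x)) (ModuleCat.of _ N)
    ((NLMain.NLIso' P).inv ≫ φ)
  rw [← Linear.comp_smul] at h1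
  rw [← cancel_epi (NLMain.NLIso' P).inv, comp_zero]
  exact h1

theorem smul_id_eq_zero (P : Algebra.Generators A B (Fin n)) (f : Fin n → MvPolynomial (Fin n) A)
    (hP : ∀ x : MvPolynomial (Fin n) A, x ∈ P.toExtension.ker ↔ x ∈ Ideal.span (Set.range f))
    (h : n ≤ n) : (jac P f h).det • 𝟙 (LCI.NL A B) = 0 := by
  have h1 : (jac P f h).det • 𝟙 (DRing.toD (nlcx P.toExtension)) = 0 :=
    DblKill.smul_id_eq_zero (ModuleCat.ofHom P.toExtension.cotangentComplex)
    (jac P f h).det (ModuleCat.ofHom (contr P f hP h))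
    (ModuleCat.hom_ext (LinearMap.ext fun x => contr_comp P f hP h x))
    (ModuleCat.hom_ext (LinearMap.ext fun x => comp_contr P f hP h x))
  have h2 : 𝟙 (LCI.NL A B) = (NLMain.NLIso' P).hom ≫ 𝟙 _ ≫ (NLMain.NLIso' P).inv := by simp
  rw [h2, ← Linear.comp_smul, ← Linear.smul_comp, h1, zero_comp, comp_zero]

end

section

variable {A : Type u} [CommRing A] {n m : ℕ} (f : Fin m → MvPolynomial (Fin n) A)

/-- the presentation `A[x] → A[x]/(f)` -/
noncomputable def gens : Algebra.Generators A (MvPolynomial (Fin n) A ⧸ Ideal.span (Set.range f)) (Fin n) :=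
  Algebra.Generators.ofAlgHom (Ideal.Quotient.mkₐ A (Ideal.span (Set.range f)))
    Ideal.Quotient.mk_surjective

lemma ker_gens (x : MvPolynomial (Fin n) A) :
    x ∈ (gens f).toExtension.ker ↔ x ∈ Ideal.span (Set.range f) := by
  have h1 : (gens f).toExtension.ker = Ideal.span (Set.range f) := by
    have := Algebra.Generators.ker_ofAlgHom (Ideal.Quotient.mkₐ A (Ideal.span (Set.range f)))
      Ideal.Quotient.mk_surjective
    refine Eq.trans this ?_
    exact Ideal.mk_ker
  rw [h1]
  exact Iff.rfl

lemma aeval_val (p : MvPolynomial (Fin n) A) :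
    MvPolynomial.aeval (gens f).val p = Ideal.Quotient.mk (Ideal.span (Set.range f)) p := by
  have : MvPolynomial.aeval (gens f).val = Ideal.Quotient.mkₐ A (Ideal.span (Set.range f)) := by
    apply MvPolynomial.algHom_ext
    intro i
    rw [MvPolynomial.aeval_X]
    rfl
  exact DFunLike.congr_fun this p

lemma det_jac (hmn : m ≤ n) : (jac (gens f) f hmn).det = Ideal.Quotient.mk (Ideal.span (Set.range f))
    (Matrix.det (Matrix.of (fun i j : Fin m => MvPolynomial.pderiv (Fin.castLE hmn i) (f j)))) := by
  rw [RingHom.map_det]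
  congr 1
  ext i j
  exact aeval_val f _

end

end K310.JacKill
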