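import Groth.Agent.Models.KoszulBC2
import Groth.Agent.Sga3C.QuotNil

/-!
Lifting Koszul-regularity along a nilpotent maximal ideal.
-/

set_option autoImplicit false
universe u

open CategoryTheory Limits CochainComplex TensorProduct

namespace K310.KoszulLift

open Groth.Agent Groth.Agent.Flat2H.KoszulGen Groth.Agent.Flat2H.KoszulSeq Groth.Agent.Models
  Groth.Agent.Models.KoszulBC Groth.Agent.Models.KoszulBC2

variable {A P : Type u} [CommRing A] [CommRing P] [Algebra A P] (m : Ideal A)
  {P' : Type u} [CommRing P'] [Algebra P P'] [Algebra (A ⧸ m) P'] [Algebra A P']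
  [IsScalarTower A (A ⧸ m) P'] [IsScalarTower A P P'] [Algebra.IsPushout A (A ⧸ m) P P']

/-- Exactness after `P' ⊗[P] -` gives exactness after `A/m ⊗[A] -`. -/
lemma exact_lTensor_quotient {X Y Z : Type u} [AddCommGroup X] [AddCommGroup Y] [AddCommGroup Z]
    [Module P X] [Module P Y] [Module P Z] [Module A X] [Module A Y] [Module A Z]
    [IsScalarTower A P X] [IsScalarTower A P Y] [IsScalarTower A P Z]
    (f : X →ₗ[P] Y) (g : Y →ₗ[P] Z) (H : Function.Exact (f.lTensor P') (g.lTensor P')) :
    Function.Exact ((f.restrictScalars A).lTensor (A ⧸ m)) ((g.restrictScalars A).lTensor (A ⧸ m)) := by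
  let eX := (Algebra.IsPushout.cancelBaseChange A (A ⧸ m) P P' X).symm
  let eY := (Algebra.IsPushout.cancelBaseChange A (A ⧸ m) P P' Y).symm
  let eZ := (Algebra.IsPushout.cancelBaseChange A (A ⧸ m) P P' Z).symm
  have h1 : ∀ x, f.lTensor P' (eX x) = eY ((f.restrictScalars A).lTensor (A ⧸ m) x) := by
    intro x
    induction x with
    | zero => simp
    | add x y hx hy => simp only [map_add, hx, hy]
    | tmul s m => simp [eX, eY]
  have h2 : ∀ x, g.lTensor P' (eY x) = eZ ((g.restrictScalars A).lTensor (A ⧸ m) x) := by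
    intro x
    induction x with
    | zero => simp
    | add x y hx hy => simp only [map_add, hx, hy]
    | tmul s m => simp [eY, eZ]
  intro y
  constructor
  · intro hy
    have h3 : g.lTensor P' (eY y) = 0 := by rw [h2, hy, map_zero]
    obtain ⟨x, hx⟩ := (H _).1 h3
    obtain ⟨x, rfl⟩ := eX.surjective x
    rw [h1] at hx
    exact ⟨x, eY.injective hx⟩
  · rintro ⟨x, rfl⟩
    apply eZ.injective
    rw [← h2, ← h1, map_zero, H.apply_apply_eq_zero]

/-- exactness from exactness mod `m`. -/
lemma exact_of_quotient [m.IsMaximal] (hm : IsNilpotent m) {X Y Z : Type u} [AddCommGroup X]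
    [AddCommGroup Y] [AddCommGroup Z]
    [Module A X] [Module A Y] [Module A Z] [Module.Flat A Z]
    (f : X →ₗ[A] Y) (g : Y →ₗ[A] Z) (hfg : g ∘ₗ f = 0)
    (H : Function.Exact (f.lTensor (A ⧸ m)) (g.lTensor (A ⧸ m))) : Function.Exact f g := by
  have h1 := Sga3C.QuotNil.exact_lTensor m f g hfg hm H A
  intro y
  constructor
  · intro hy
    have h2 : g.lTensor A (1 ⊗ₜ y) = 0 := by rw [LinearMap.lTensor_tmul, hy, tmul_zero]
    obtain ⟨x, hx⟩ := (h1 _).1 h2
    refine ⟨TensorProduct.lid A X x, ?_⟩
    have h3 : ∀ x : A ⊗[A] X, f (TensorProduct.lid A X x) =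
        TensorProduct.lid A Y (f.lTensor A x) := by
      intro x
      induction x with
      | zero => simp
      | add x y hx hy => simp only [map_add, hx, hy]
      | tmul s m => simp
    rw [h3, hx]
    simp
  · rintro ⟨x, rfl⟩
    exact LinearMap.congr_fun hfg x

variable [Module.Flat A P] [m.IsMaximal] (hm : IsNilpotent m) (l : List P)

include hm in
theorem lift (hl : LCI.IsKoszulRegularSeq P' (l.map (algebraMap P P'))) :
    LCI.IsKoszulRegularSeq P l ∧ Module.Flat A (P ⧸ Ideal.ofList l) := by
  let hM (i : ℤ) : Module A ((kos l (base P)).X i) := Module.compHom _ (algebraMap A P)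
  have hT (i : ℤ) : IsScalarTower A P ((kos l (base P)).X i) := ⟨fun a b x => by
    rw [Algebra.smul_def, mul_smul]
    rfl⟩
  have hF (i : ℤ) : Module.Flat A ((kos l (base P)).X i) := by
    have := flat_kos P l i
    exact Module.Flat.trans A P _
  -- exactness after base change
  have h1 : ∀ j : ℤ, j - 1 < 0 → Function.Exact
      (((kos l (base P)).d (j - 1 - 1) (j - 1)).hom.lTensor P')
      (((kos l (base P)).d (j - 1) j).hom.lTensor P') := by
    intro j hj
    obtain ⟨e₁⟩ := kos_map (algebraMap P P') (ext P P') (fun a _ _ g => ext_map_smul P P' a g) l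
      (base P)
    obtain ⟨e₂⟩ := kos_congr (l.map (algebraMap P P')) (extBase P P')
    have h2 : IsZero ((((ext P P').mapHomologicalComplex (ComplexShape.up ℤ)).obj
        (kos l (base P))).homology (j - 1)) :=
      ((isKoszulRegularSeq_iff _).1 hl (j - 1) hj).of_iso
        ((HomologicalComplex.homologyFunctor _ _ (j - 1)).mapIso (e₁ ≪≫ e₂))
    rw [← HomologicalComplex.exactAt_iff_isZero_homology,
      HomologicalComplex.exactAt_iff' _ (j - 1 - 1) (j - 1) j (by simp) (by simp)] at h2
    exact (ShortComplex.ShortExact.moduleCat_exact_iff_function_exact _).1 h2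
  have h0 : ∀ j : ℤ, ((kos l (base P)).d (j - 1) j).hom.restrictScalars A ∘ₗ
      ((kos l (base P)).d (j - 1 - 1) (j - 1)).hom.restrictScalars A = 0 := by
    intro j
    ext x
    have := congrArg (fun t => t.hom x) ((kos l (base P)).d_comp_d (j - 1 - 1) (j - 1) j)
    exact this
  have h3 : ∀ j : ℤ, j - 1 < 0 → Function.Exact
      ((((kos l (base P)).d (j - 1 - 1) (j - 1)).hom.restrictScalars A).lTensor (A ⧸ m))
      ((((kos l (base P)).d (j - 1) j).hom.restrictScalars A).lTensor (A ⧸ m)) :=
    fun j hj => exact_lTensor_quotient m _ _ (h1 j hj)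
  constructor
  · rw [isKoszulRegularSeq_iff]
    intro i hi
    rw [← HomologicalComplex.exactAt_iff_isZero_homology]
    obtain ⟨j, rfl⟩ : ∃ j, i = j - 1 := ⟨i + 1, by ring⟩
    rw [HomologicalComplex.exactAt_iff' _ (j - 1 - 1) (j - 1) j (by simp) (by simp)]
    refine (ShortComplex.ShortExact.moduleCat_exact_iff_function_exact _).2 ?_
    exact exact_of_quotient m hm _ _ (h0 j) (h3 j hi)
  · obtain ⟨g, hg, hfg⟩ := exists_augmentation l
    have h4 := h3 0 (by norm_num)
    have h5 := fun (M : Type u) [AddCommGroup M] [Module A M] =>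
      Sga3C.QuotNil.lTensor_liftQ_injective m _ _ (h0 0) hm h4 M
    let K := kos l (base P)
    let ι : (K.X (0 - 1) ⧸ LinearMap.range ((K.d (0 - 1 - 1) (0 - 1)).hom.restrictScalars A)) →ₗ[A]
      K.X 0 := (LinearMap.range ((K.d (0 - 1 - 1) (0 - 1)).hom.restrictScalars A)).liftQ
        ((K.d (0 - 1) 0).hom.restrictScalars A) (LinearMap.range_le_ker_iff.mpr (h0 0))
    let g' : K.X 0 →ₗ[A] (P ⧸ Ideal.ofList l) := g.restrictScalars A
    have h6 : Function.Exact ι g' := by
      intro x
      have h7 := hfg x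
      refine h7.trans ?_
      constructor
      · rintro ⟨y, rfl⟩
        exact ⟨Submodule.Quotient.mk y, rfl⟩
      · rintro ⟨y, rfl⟩
        obtain ⟨y, rfl⟩ := Submodule.Quotient.mk_surjective _ y
        exact ⟨y, rfl⟩
    have hF0 := hF 0
    refine Ega3A.FlatSES.flat_right (f := ι) (g := g') h6 hg ?_
    intro M _ _
    rw [← LinearMap.lTensor_inj_iff_rTensor_inj]
    exact h5 M

end K310.KoszulLift
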