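import Groth.Agent.Models.NLIdeal
import Groth.Agent.Models.KoszulCot
import Groth.Agent.Flat2H.KoszulPerf
import Mathlib.Algebra.Module.FinitePresentation
import Mathlib.RingTheory.Flat.EquationalCriterion

/-!
The naive cotangent complex of a local complete intersection map is perfect.
-/

open CategoryTheory Limits

universe u

namespace K310.NLPerf

open Groth.Agent Groth.Agent.Models Groth.Agent.Models.DoubleCx Groth.Agent.Models.NLBasic

attribute [local instance] HasDerivedCategory.standard

/-- A finitely presented module over `R` which is a module over a quotient `B` of `R` is finitely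
presented over `B`. -/
theorem finitePresentation_of_surjective {R B M : Type*} [CommRing R] [CommRing B] [Algebra R B]
    (hs : Function.Surjective (algebraMap R B)) [AddCommGroup M] [Module R M] [Module B M]
    [IsScalarTower R B M] [Module.FinitePresentation R M] : Module.FinitePresentation B M := by
  obtain ⟨n, f, hf⟩ := Module.Finite.exists_fin' R M
  have hk : (LinearMap.ker f).FG := Module.FinitePresentation.fg_ker f hf
  let q : (Fin n → R) →ₗ[R] (Fin n → B) := (Algebra.linearMap R B).compLeft (Fin n)
  have hq : Function.Surjective q := fun b => by
    choose a ha using fun i => hs (b i)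
    exact ⟨a, funext fun i => ha i⟩
  let f' : (Fin n → B) →ₗ[B] M :=
    Fintype.linearCombination B (fun i => f (Pi.single i 1))
  have hff' : ∀ a, f' (q a) = f a := by
    intro a
    conv_rhs => rw [pi_eq_sum_univ' a]
    rw [map_sum, Fintype.linearCombination_apply]
    refine Finset.sum_congr rfl fun i _ => ?_
    rw [map_smul]
    change algebraMap R B (a i) • f (Pi.single i 1) = _
    rw [algebraMap_smul]
  have hf's : Function.Surjective f' := fun m => by
    obtain ⟨a, ha⟩ := hf m
    exact ⟨q a, by rw [hff', ha]⟩
  refine Module.finitePresentation_of_surjective f' hf's ?_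
  have h1 : (LinearMap.ker f').restrictScalars R = (LinearMap.ker f).map q := by
    ext b
    constructor
    · intro hb
      obtain ⟨a, rfl⟩ := hq b
      refine ⟨a, ?_, rfl⟩
      change f a = 0
      rw [← hff']
      exact hb
    · rintro ⟨a, ha, rfl⟩
      change f' (q a) = 0
      rw [hff']
      exact ha
  have h2 : ((LinearMap.ker f').restrictScalars R).FG := by
    rw [h1]
    exact hk.map q
  obtain ⟨s, hs⟩ := h2
  refine ⟨s, ?_⟩
  apply le_antisymm
  · rw [Submodule.span_le]
    intro x hx
    have : x ∈ (LinearMap.ker f').restrictScalars R := by
      rw [← hs]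
      exact Submodule.subset_span hx
    exact this
  · intro x hx
    have h3 : x ∈ (LinearMap.ker f').restrictScalars R := hx
    rw [← hs] at h3
    exact Submodule.span_le_restrictScalars R B _ h3

/-- A Koszul-regular ideal is finitely presented. -/
theorem finitePresentation_ideal {P : Type u} [CommRing P] {I : Ideal P}
    (h : LCI.IsKoszulRegularIdeal I) : Module.FinitePresentation P I := by
  have h1 : Flat2H.FPInf P I :=
    Flat2H.FPInf.left I.subtype (Ideal.Quotient.mkₐ P I).toLinearMap
      I.subtype_injective Ideal.Quotient.mk_surjective (by
        intro x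
        constructor
        · intro hx
          exact ⟨⟨x, Ideal.Quotient.eq_zero_iff_mem.1 hx⟩, rfl⟩
        · rintro ⟨y, rfl⟩
          exact Ideal.Quotient.eq_zero_iff_mem.2 y.2)
      (fun n => Flat2H.FPn.of_projective n P) (Flat2H.KoszulPerf.fpInf_quotient h)
  obtain ⟨k, f, hf, hk⟩ := h1 1
  have hk' : Module.Finite P (LinearMap.ker f) := hk
  exact Module.finitePresentation_of_surjective f hf (Module.Finite.iff_fg.1 hk')

/-- The conormal module of a Koszul-regular ideal is finitely presented over the ring. -/
theorem finitePresentation_cotangent {P : Type u} [CommRing P] {I : Ideal P}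
    (h : LCI.IsKoszulRegularIdeal I) : Module.FinitePresentation P I.Cotangent := by
  have h1 := finitePresentation_ideal h
  have hfg : I.FG := (Module.Finite.iff_fg (N := I)).1 inferInstance
  refine Module.finitePresentation_of_surjective I.toCotangent I.toCotangent_surjective ?_
  rw [show LinearMap.ker I.toCotangent = I • (⊤ : Submodule P I) from Submodule.ker_mkQ _]
  exact Submodule.FG.smul hfg Module.Finite.fg_top

variable {A B : Type u} [CommRing A] [CommRing B] [Algebra A B]

theorem perfect {n : ℕ} (f : MvPolynomial (Fin n) A →ₐ[A] B) (hf : Function.Surjective f)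
    (h : LCI.IsKoszulRegularIdeal (RingHom.ker f.toRingHom)) :
    DRing.IsPerfect B (LCI.NL A B) := by
  let P : Algebra.Generators A B (Fin n) := Algebra.Generators.ofAlgHom f hf
  have hk : P.ker = RingHom.ker f.toRingHom := Algebra.Generators.ker_ofAlgHom f hf
  have h' : LCI.IsKoszulRegularIdeal P.toExtension.ker := by
    have : P.toExtension.ker = RingHom.ker f.toRingHom := hk
    rw [this]
    exact h
  have h1 : Module.Flat B P.toExtension.Cotangent := by
    rw [NLIdeal.flat_cotangent_iff]
    exact KoszulCot.flat_cotangent h'
  have h2 : Module.FinitePresentation P.toExtension.Ring P.toExtension.Cotangent := by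
    have := finitePresentation_cotangent h'
    let e : P.toExtension.Cotangent ≃ₗ[P.toExtension.Ring] P.toExtension.ker.Cotangent :=
      { __ := AddEquiv.refl _, map_smul' := Algebra.Extension.Cotangent.val_smul' }
    exact Module.FinitePresentation.of_equiv e.symm
  have h3 : Module.FinitePresentation B P.toExtension.Cotangent :=
    finitePresentation_of_surjective (R := P.toExtension.Ring) P.toExtension.algebraMap_surjective
  have h4 : Module.Projective B P.toExtension.Cotangent :=
    Module.Flat.projective_of_finitePresentation
  have h5 : Module.Finite B P.toExtension.Cotangent := inferInstance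
  have h6 : Module.Finite B P.toExtension.CotangentSpace :=
    Module.Finite.of_basis P.cotangentSpaceBasis
  have h7 : Module.Free B P.toExtension.CotangentSpace :=
    Module.Free.of_basis P.cotangentSpaceBasis
  have h8 : Module.Projective B P.toExtension.CotangentSpace := inferInstance
  refine ⟨nlcx P.toExtension, -1, 0, ?_, ?_, ⟨(NLMain.NLIso' P).symm⟩⟩
  · intro i hi
    exact HomologicalComplex.isZero_double_X _ (show (ComplexShape.up ℤ).Rel (-1) 0 by simp) i
      (by omega) (by omega)
  · intro i
    by_cases h : i = -1
    · subst h
      exact ⟨Module.Finite.equiv (i₀ (ModuleCat.ofHom P.toExtension.cotangentComplex)).toLinearEquiv.symm,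
        Module.Projective.of_equiv
          (i₀ (ModuleCat.ofHom P.toExtension.cotangentComplex)).toLinearEquiv.symm⟩
    · by_cases h' : i = 0
      · subst h'
        exact ⟨Module.Finite.equiv
            (i₁ (ModuleCat.ofHom P.toExtension.cotangentComplex)).toLinearEquiv.symm,
          Module.Projective.of_equiv
            (i₁ (ModuleCat.ofHom P.toExtension.cotangentComplex)).toLinearEquiv.symm⟩
      · have := (HomologicalComplex.isZero_double_X
          (ModuleCat.ofHom P.toExtension.cotangentComplex)
          (show (ComplexShape.up ℤ).Rel (-1) 0 by simp) i h h')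
        have : Subsingleton ((nlcx P.toExtension).X i) := ModuleCat.subsingleton_of_isZero this
        exact ⟨inferInstance, inferInstance⟩

end K310.NLPerf
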