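import Groth.Agent.Ega4late.H517.DensityP
import Groth.Agent.Deform.K682.ExtOne
import Groth.Agent.TFCurv.K839.ExtTools
import Mathlib.RingTheory.Kaehler.Basic
import Mathlib.RingTheory.MvPowerSeries.Derivative
import Mathlib.RingTheory.MvPowerSeries.NoZeroDivisors
import Mathlib.RingTheory.MvPowerSeries.Inverse

/-!
Kähler differentials of power series rings over perfect fields of characteristic `p`, and of their
hypersurface quotients.
-/

set_option autoImplicit false
universe u

open CategoryTheory

namespace K310.PSKaehler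

open Groth.Agent.Ega4late.H517.DensityP

section der

variable {k : Type*} [Field k] {d : ℕ} (p : ℕ) [Fact p.Prime] [CharP k p] [PerfectRing k p]
  {M : Type*} [AddCommGroup M] [Module k M] [Module (MvPowerSeries (Fin d) k) M]

/-- The elements killed by a derivation form a subring. -/
def killed (D : Derivation k (MvPowerSeries (Fin d) k) M) : Subring (MvPowerSeries (Fin d) k) where
  carrier := {x | D x = 0}
  mul_mem' {a b} ha hb := by
    change D (a * b) = 0
    change D a = 0 at ha
    change D b = 0 at hb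
    rw [Derivation.leibniz, ha, hb, smul_zero, smul_zero, add_zero]
  one_mem' := D.map_one_eq_zero
  add_mem' {a b} ha hb := by
    change D (a + b) = 0
    change D a = 0 at ha
    change D b = 0 at hb
    rw [map_add, ha, hb, add_zero]
  zero_mem' := map_zero D
  neg_mem' {a} ha := by
    change D (-a) = 0
    change D a = 0 at ha
    rw [map_neg, ha, neg_zero]

omit [Fact p.Prime] [PerfectRing k p] in
theorem pow_mem_killed (D : Derivation k (MvPowerSeries (Fin d) k) M) (x : MvPowerSeries (Fin d) k) :
    x ^ p ∈ killed D := by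
  change D (x ^ p) = 0
  have hp : (p : MvPowerSeries (Fin d) k) = 0 := by
    have h1 : (p : MvPowerSeries (Fin d) k) = MvPowerSeries.C ((p : ℕ) : k) := by
      rw [map_natCast]
    rw [h1, CharP.cast_eq_zero, map_zero]
  rw [Derivation.leibniz_pow, ← Nat.cast_smul_eq_nsmul (MvPowerSeries (Fin d) k), hp, zero_smul]

include p in
theorem eq_zero_of_X (D : Derivation k (MvPowerSeries (Fin d) k) M)
    (h : ∀ i, D (MvPowerSeries.X i) = 0) (f : MvPowerSeries (Fin d) k) : D f = 0 := by
  have hall : f ∈ killed D := by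
    rw [eq_sum p f]
    refine Subring.sum_mem _ fun a _ => ?_
    refine Subring.mul_mem _ ?_ (pow_mem_killed p D _)
    have h1 : MvPowerSeries.monomial (Finsupp.equivFunOnFinite.symm (fun i => (a i : ℕ))) (1 : k) =
        ∏ i, (MvPowerSeries.X i : MvPowerSeries (Fin d) k) ^ (a i : ℕ) := by
      rw [MvPowerSeries.monomial_one_eq, Finsupp.prod_fintype]
      · rfl
      · intro i; simp
    rw [h1]
    refine Subring.prod_mem _ fun i _ => ?_
    exact Subring.pow_mem _ (h i) _
  exact hall

/-- The derivation with prescribed values on the variables. -/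
noncomputable def comb [IsScalarTower k (MvPowerSeries (Fin d) k) M] (c : Fin d → M) :
    Derivation k (MvPowerSeries (Fin d) k) M :=
  ∑ i, (LinearMap.toSpanSingleton (MvPowerSeries (Fin d) k) M (c i)).compDer
    (MvPowerSeries.pderiv k i)

theorem comb_apply [IsScalarTower k (MvPowerSeries (Fin d) k) M] (c : Fin d → M)
    (f : MvPowerSeries (Fin d) k) : comb c f = ∑ i, MvPowerSeries.pderiv k i f • c i := by
  let ev : Derivation k (MvPowerSeries (Fin d) k) M →+ M :=
    { toFun := fun D => D f
      map_zero' := rfl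
      map_add' := fun _ _ => rfl }
  change ev (comb c) = _
  rw [comb, map_sum]
  rfl

include p in
theorem der_eq [IsScalarTower k (MvPowerSeries (Fin d) k) M]
    (D : Derivation k (MvPowerSeries (Fin d) k) M)
    (f : MvPowerSeries (Fin d) k) :
    D f = ∑ i, MvPowerSeries.pderiv k i f • D (MvPowerSeries.X i) := by
  classical
  have h := eq_zero_of_X p (D - comb (fun i => D (MvPowerSeries.X i))) (by
    intro i
    rw [Derivation.sub_apply, comb_apply, sub_eq_zero, Finset.sum_eq_single i]
    · rw [MvPowerSeries.pderiv_X_self, one_smul]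
    · intro j _ hj
      rw [MvPowerSeries.pderiv_X_of_ne (Ne.symm hj), zero_smul]
    · intro h; exact absurd (Finset.mem_univ _) h) f
  rw [Derivation.sub_apply, comb_apply, sub_eq_zero] at h
  exact h

include p in
theorem span_der (f : MvPowerSeries (Fin d) k) :
    Ideal.span {g | ∃ D : Derivation k (MvPowerSeries (Fin d) k) (MvPowerSeries (Fin d) k),
      g = D f} = Ideal.span (Set.range fun i => MvPowerSeries.pderiv k i f) := by
  apply le_antisymm
  · rw [Ideal.span_le]
    rintro _ ⟨D, rfl⟩
    rw [der_eq p D f]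
    refine Ideal.sum_mem _ fun i _ => ?_
    exact Ideal.mul_mem_right _ _ (Ideal.subset_span ⟨i, rfl⟩)
  · rw [Ideal.span_le]
    rintro _ ⟨i, rfl⟩
    exact Ideal.subset_span ⟨_, rfl⟩

end der

section quot

variable {k : Type u} [Field k] {d : ℕ} (f : MvPowerSeries (Fin d) k)

/-- The hypersurface ring. -/
abbrev RR : Type u := MvPowerSeries (Fin d) k ⧸ Ideal.span {f}

/-- the gradient in `R^d` -/
noncomputable def grad : Fin d → RR f := fun i => Ideal.Quotient.mk _ (MvPowerSeries.pderiv k i f)

/-- `R → R^d`, multiplication by the gradient -/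
noncomputable def gradMap : RR f →ₗ[RR f] (Fin d → RR f) :=
  LinearMap.toSpanSingleton (RR f) (Fin d → RR f) (grad f)

/-- `R^d → Ω` -/
noncomputable def toOmega : (Fin d → RR f) →ₗ[RR f] Ω[RR f⁄k] :=
  (Fintype.linearCombination (RR f)
    (fun i => KaehlerDifferential.D k (RR f) (Ideal.Quotient.mk _ (MvPowerSeries.X i))))

theorem toOmega_apply (v : Fin d → RR f) :
    toOmega f v = ∑ i, v i • KaehlerDifferential.D k (RR f) (Ideal.Quotient.mk _ (MvPowerSeries.X i)) := rfl

/-- `g ↦ d (mk g)` -/
noncomputable def dmk : Derivation k (MvPowerSeries (Fin d) k) Ω[RR f⁄k] :=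
  (KaehlerDifferential.D k (RR f)).compAlgebraMap (MvPowerSeries (Fin d) k)

theorem dmk_apply (g : MvPowerSeries (Fin d) k) :
    dmk f g = KaehlerDifferential.D k (RR f) (Ideal.Quotient.mk _ g) := rfl

variable (p : ℕ) [Fact p.Prime] [CharP k p] [PerfectRing k p]

include p in
theorem D_mk (g : MvPowerSeries (Fin d) k) : KaehlerDifferential.D k (RR f) (Ideal.Quotient.mk _ g) =
    toOmega f (fun i => Ideal.Quotient.mk _ (MvPowerSeries.pderiv k i g)) := by
  rw [← dmk_apply, der_eq p (dmk f) g, toOmega_apply]
  rfl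

include p in
theorem toOmega_surjective : Function.Surjective (toOmega f) := by
  rw [← LinearMap.range_eq_top, eq_top_iff, ← KaehlerDifferential.span_range_derivation,
    Submodule.span_le]
  rintro _ ⟨x, rfl⟩
  obtain ⟨x, rfl⟩ := Ideal.Quotient.mk_surjective x
  exact ⟨_, (D_mk f p x).symm⟩

/-- the inverse derivation -/
noncomputable def der0 : Derivation k (MvPowerSeries (Fin d) k) ((Fin d → RR f) ⧸ LinearMap.range (gradMap f)) :=
  comb (fun i => Submodule.Quotient.mk (Pi.single i 1))

theorem der0_apply (g : MvPowerSeries (Fin d) k) : der0 f g =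
    Submodule.Quotient.mk (fun i => Ideal.Quotient.mk _ (MvPowerSeries.pderiv k i g)) := by
  classical
  rw [der0, comb_apply]
  have h : (fun i => Ideal.Quotient.mk (Ideal.span {f}) (MvPowerSeries.pderiv k i g)) =
      ∑ i, MvPowerSeries.pderiv k i g • (Pi.single i 1 : Fin d → RR f) := by
    ext j
    rw [Finset.sum_apply, Finset.sum_eq_single j]
    · rw [Pi.smul_apply, Pi.single_eq_same]
      change _ = Ideal.Quotient.mk (Ideal.span {f}) (MvPowerSeries.pderiv k j g * 1)
      rw [mul_one]
    · intro i _ hi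
      rw [Pi.smul_apply, Pi.single_eq_of_ne (Ne.symm hi), smul_zero]
    · intro h; exact absurd (Finset.mem_univ _) h
  rw [h, ← Submodule.mkQ_apply, map_sum]
  rfl

theorem der0_mem (g : MvPowerSeries (Fin d) k) (hg : g ∈ Ideal.span {f}) : der0 f g = 0 := by
  obtain ⟨c, rfl⟩ := Ideal.mem_span_singleton'.1 hg
  rw [Derivation.leibniz]
  have h1 : der0 f f = 0 := by
    rw [der0_apply, Submodule.Quotient.mk_eq_zero]
    refine ⟨1, ?_⟩
    rw [gradMap, LinearMap.toSpanSingleton_apply, one_smul]
    rfl
  have h2 : f • der0 f c = 0 := by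
    rw [der0_apply, ← Submodule.Quotient.mk_smul]
    have : (f • fun i => Ideal.Quotient.mk (Ideal.span {f}) (MvPowerSeries.pderiv k i c)) = 0 := by
      ext i
      change Ideal.Quotient.mk (Ideal.span {f}) (f * MvPowerSeries.pderiv k i c) = 0
      exact Ideal.Quotient.eq_zero_iff_mem.2
        (Ideal.mul_mem_right _ _ (Ideal.mem_span_singleton_self f))
    rw [this, Submodule.Quotient.mk_zero]
  rw [h1, h2, smul_zero, add_zero]

/-- The descended derivation. -/
noncomputable def der1 : Derivation k (RR f) ((Fin d → RR f) ⧸ LinearMap.range (gradMap f)) where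
  toLinearMap := (Submodule.liftQ ((Ideal.span {f}).restrictScalars k)
    (der0 f : MvPowerSeries (Fin d) k →ₗ[k] ((Fin d → RR f) ⧸ LinearMap.range (gradMap f)))
    (fun g hg => der0_mem f g hg))
  map_one_eq_zero' := (der0 f).map_one_eq_zero
  leibniz' := by
    intro a b
    obtain ⟨a, rfl⟩ := Ideal.Quotient.mk_surjective a
    obtain ⟨b, rfl⟩ := Ideal.Quotient.mk_surjective b
    exact (der0 f).leibniz a b

theorem der1_mk (g : MvPowerSeries (Fin d) k) : der1 f (Ideal.Quotient.mk _ g) = der0 f g := rfl

include p in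
theorem exact_gradMap : Function.Exact (gradMap f) (toOmega f) := by
  classical
  have h0 : ∀ x, toOmega f (gradMap f x) = 0 := by
    intro x
    have h1 : toOmega f (grad f) = 0 := by
      have := D_mk f p f
      rw [Ideal.Quotient.eq_zero_iff_mem.2 (Ideal.mem_span_singleton_self f), map_zero] at this
      exact this.symm
    rw [gradMap, LinearMap.toSpanSingleton_apply, map_smul, h1, smul_zero]
  intro v
  refine ⟨fun hv => ?_, ?_⟩
  · let φ := (der1 f).liftKaehlerDifferential
    have h1 : ∀ w, φ (toOmega f w) = Submodule.Quotient.mk w := by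
      intro w
      have h2 : φ ∘ₗ toOmega f = (LinearMap.range (gradMap f)).mkQ := by
        apply LinearMap.pi_ext'
        intro i
        apply LinearMap.ext_ring
        rw [LinearMap.comp_apply, LinearMap.comp_apply, LinearMap.single_apply, toOmega_apply,
          Finset.sum_eq_single i]
        · rw [Pi.single_eq_same, one_smul]
          rw [Derivation.liftKaehlerDifferential_comp_D, der1_mk, der0_apply]
          change _ = Submodule.Quotient.mk _
          congr 1
          ext j
          by_cases hj : j = i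
          · subst hj
            rw [MvPowerSeries.pderiv_X_self, LinearMap.single_apply, Pi.single_eq_same, map_one]
          · rw [MvPowerSeries.pderiv_X_of_ne (Ne.symm hj), LinearMap.single_apply,
              Pi.single_eq_of_ne hj, map_zero]
        · intro j _ hj
          rw [Pi.single_eq_of_ne hj]
          exact zero_smul (RR f) (KaehlerDifferential.D k (RR f)
            (Ideal.Quotient.mk (Ideal.span {f}) (MvPowerSeries.X j)))
        · intro h; exact absurd (Finset.mem_univ _) h
      exact LinearMap.congr_fun h2 w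
    have h3 := h1 v
    rw [hv, map_zero] at h3
    exact (Submodule.Quotient.mk_eq_zero _).1 h3.symm
  · rintro ⟨x, rfl⟩
    exact h0 x

end quot

section ext

variable {R : Type u} [CommRing R] {n : ℕ} (g : Fin n → R) {M : Type u} [AddCommGroup M] [Module R M]
  (π : (Fin n → R) →ₗ[R] M)

theorem ext_two (hπ : Function.Surjective π)
    (hex : Function.Exact (LinearMap.toSpanSingleton R (Fin n → R) g) π)
    (hinj : Function.Injective (LinearMap.toSpanSingleton R (Fin n → R) g)) :
    Subsingleton (Abelian.Ext.{u} (ModuleCat.of R M) (ModuleCat.of R R) 2) := by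
  have hproj : Projective (ModuleCat.of R (Fin n → R)) :=
    ModuleCat.projective_of_categoryTheory_projective _
  have hproj' : Projective (ModuleCat.of R R) :=
    ModuleCat.projective_of_categoryTheory_projective _
  have h1 : Subsingleton (Abelian.Ext.{u} (ModuleCat.of R (Fin n → R)) (ModuleCat.of R R) 1) :=
    ⟨fun a b => by rw [Abelian.Ext.eq_zero_of_projective a, Abelian.Ext.eq_zero_of_projective b]⟩
  have h2 : Subsingleton (Abelian.Ext.{u} (ModuleCat.of R (Fin n → R)) (ModuleCat.of R R) 2) :=
    ⟨fun a b => by rw [Abelian.Ext.eq_zero_of_projective a, Abelian.Ext.eq_zero_of_projective b]⟩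
  have h3 : Subsingleton (Abelian.Ext.{u} (ModuleCat.of R R) (ModuleCat.of R R) 1) :=
    ⟨fun a b => by rw [Abelian.Ext.eq_zero_of_projective a, Abelian.Ext.eq_zero_of_projective b]⟩
  exact (K839.ExtTools.shiftContra hex hinj hπ R 1 h1 h2).symm.injective.subsingleton

theorem ext_one (hπ : Function.Surjective π)
    (hex : Function.Exact (LinearMap.toSpanSingleton R (Fin n → R) g) π)
    (hinj : Function.Injective (LinearMap.toSpanSingleton R (Fin n → R) g)) :
    Nonempty (Abelian.Ext.{u} (ModuleCat.of R M) (ModuleCat.of R R) 1 ≃ₗ[R]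
      (R ⧸ Ideal.span (Set.range g))) := by
  classical
  let e1 := (K682.ExtOne.equiv (LinearMap.toSpanSingleton R (Fin n → R) g) π hex hinj hπ R).symm
  let e2 : (R →ₗ[R] R) ≃ₗ[R] R := LinearMap.ringLmapEquivSelf R R R
  refine ⟨e1.trans (Submodule.Quotient.equiv _ _ e2 ?_)⟩
  ext x
  constructor
  · rintro ⟨_, ⟨φ, rfl⟩, rfl⟩
    change (φ (LinearMap.toSpanSingleton R (Fin n → R) g 1)) ∈ _
    rw [LinearMap.toSpanSingleton_apply, one_smul, LinearMap.pi_apply_eq_sum_univ φ g]
    refine Ideal.sum_mem _ fun i _ => ?_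
    rw [smul_eq_mul]
    exact Ideal.mul_mem_right _ _ (Ideal.subset_span ⟨i, rfl⟩)
  · intro hx
    obtain ⟨c, hc⟩ := (Ideal.mem_span_range_iff_exists_fun).1 hx
    refine ⟨_, ⟨Fintype.linearCombination R c, rfl⟩, ?_⟩
    change (Fintype.linearCombination R c) (LinearMap.toSpanSingleton R (Fin n → R) g 1) = x
    rw [LinearMap.toSpanSingleton_apply, one_smul, Fintype.linearCombination_apply, ← hc]
    refine Finset.sum_congr rfl fun i _ => ?_
    rw [smul_eq_mul, mul_comm]

end ext

section inj

variable {k : Type u} [Field k]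

theorem X_mem (d : ℕ) (i : Fin d) :
    (MvPowerSeries.X i : MvPowerSeries (Fin d) k) ∈ IsLocalRing.maximalIdeal (MvPowerSeries (Fin d) k) := by
  rw [IsLocalRing.mem_maximalIdeal, mem_nonunits_iff, MvPowerSeries.isUnit_iff_constantCoeff,
    MvPowerSeries.constantCoeff_X]
  exact not_isUnit_zero

theorem X_pow_dvd_of_dvd_mul (d : ℕ) (i j : Fin d) (hij : i ≠ j) (N : ℕ)
    (b : MvPowerSeries (Fin d) k) (h : MvPowerSeries.X i ^ N ∣ b * MvPowerSeries.X j ^ N) :
    MvPowerSeries.X i ^ N ∣ b := by
  classical
  rw [MvPowerSeries.X_pow_dvd_iff] at h ⊢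
  intro m hm
  have h1 := h (m + Finsupp.single j N) (by
    rw [Finsupp.add_apply, Finsupp.single_eq_of_ne hij, add_zero]
    exact hm)
  rw [MvPowerSeries.X_pow_eq, MvPowerSeries.coeff_add_mul_monomial, mul_one] at h1
  exact h1

theorem mem_of_forall (d : ℕ) (i j : Fin d) (hij : i ≠ j) (f : MvPowerSeries (Fin d) k) (hf : f ≠ 0)
    (N : ℕ) (a : MvPowerSeries (Fin d) k) (h : ∀ x ∈ IsLocalRing.maximalIdeal (MvPowerSeries (Fin d) k) ^ N,
      x * a ∈ Ideal.span {f}) : a ∈ Ideal.span {f} := by
  obtain ⟨b, hb⟩ := Ideal.mem_span_singleton'.1 (h _ (Ideal.pow_mem_pow (X_mem d i) N))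
  obtain ⟨c, hc⟩ := Ideal.mem_span_singleton'.1 (h _ (Ideal.pow_mem_pow (X_mem d j) N))
  have h1 : b * MvPowerSeries.X j ^ N = c * MvPowerSeries.X i ^ N := by
    apply mul_right_cancel₀ hf
    calc b * MvPowerSeries.X j ^ N * f = MvPowerSeries.X j ^ N * (b * f) := by ring
      _ = MvPowerSeries.X i ^ N * (c * f) := by rw [hb, hc]; ring
      _ = c * MvPowerSeries.X i ^ N * f := by ring
  obtain ⟨b', rfl⟩ := X_pow_dvd_of_dvd_mul d i j hij N b ⟨c, by rw [h1, mul_comm]⟩
  rw [Ideal.mem_span_singleton']
  refine ⟨b', ?_⟩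
  have hX : (MvPowerSeries.X i ^ N : MvPowerSeries (Fin d) k) ≠ 0 := by
    apply pow_ne_zero
    intro h0
    have := congrArg (MvPowerSeries.coeff (Finsupp.single i 1)) h0
    rw [MvPowerSeries.coeff_index_single_self_X, map_zero] at this
    exact one_ne_zero this
  apply mul_left_cancel₀ hX
  rw [← hb, mul_assoc]

end inj

end K310.PSKaehler
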