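import Groth.Agent.LCI.K310.RelLiftLoc
import Groth.Agent.Models.TorPoly

/-!
A relation lift obstruction to finite Tor-dimension.
-/

set_option autoImplicit false
universe u

namespace K310.RelLift

theorem hasFiniteTorDim_quotient {R : Type u} [CommRing R] {n : ℕ}
    (K : Ideal (MvPolynomial (Fin n) R))
    (hfd : DRing.HasFiniteTorDim R (MvPolynomial (Fin n) R ⧸ K)) :
    DRing.HasFiniteTorDim (MvPolynomial (Fin n) R) (MvPolynomial (Fin n) R ⧸ K) :=
  Groth.Agent.Models.TorPoly.hasFiniteTorDim_mvPolynomial (Ideal.Quotient.mkₐ R K) hfd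

theorem exists_prime {S : Type u} [CommRing S] (J : Ideal S) (g : S)
    (hg : ¬ IsNilpotent (Ideal.Quotient.mk J g)) :
    ∃ q : Ideal S, q.IsPrime ∧ J ≤ q ∧ g ∉ q := by
  have h2 : g ∉ J.radical := by
    intro h3
    apply hg
    obtain ⟨N, hN⟩ := h3
    refine ⟨N, ?_⟩
    rw [← map_pow, Ideal.Quotient.eq_zero_iff_mem]
    exact hN
  rw [Ideal.radical_eq_sInf, Submodule.mem_sInf] at h2
  push Not at h2
  obtain ⟨q, ⟨h3, h4⟩, h5⟩ := h2
  exact ⟨q, h4, h3, h5⟩

theorem not_hasFiniteTorDim {R' R : Type u} [CommRing R'] [CommRing R]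
    [IsNoetherianRing R'] (π : R' →+* R) (hπ : Function.Surjective π)
    (f : R') (hker : RingHom.ker π = Ideal.span {f})
    {n m : ℕ} (fs r : Fin m → MvPolynomial (Fin n) R)
    (h1 : ∀ (j : Fin m) (d : Fin n →₀ ℕ),
      MvPolynomial.coeff d (r j) ∈ ((Ideal.span {f}).annihilator).map π)
    (r' f' : Fin m → MvPolynomial (Fin n) R') (g : MvPolynomial (Fin n) R')
    (hr' : ∀ j, MvPolynomial.map π (r' j) = r j) (hf' : ∀ j, MvPolynomial.map π (f' j) = fs j)
    (hsum : ∑ j, r' j * f' j = MvPolynomial.C f * g)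
    (hg : ¬ IsNilpotent (Ideal.Quotient.mk
      (Ideal.span (Set.range fs) ⊔ (((Ideal.span {f}).annihilator).map π).map MvPolynomial.C)
      (MvPolynomial.map π g)))
    (hfd : DRing.HasFiniteTorDim R (MvPolynomial (Fin n) R ⧸ Ideal.span (Set.range fs))) :
    False := by
  obtain ⟨q, hq, hle, hgq⟩ := exists_prime _ _ hg
  have hKq : Ideal.span (Set.range fs) ≤ q := le_sup_left.trans hle
  have hIq := le_sup_right.trans hle
  have hcc : q = (q.map (Ideal.Quotient.mk (Ideal.span (Set.range fs)))).comap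
      (Ideal.Quotient.mk (Ideal.span (Set.range fs))) := by
    rw [Ideal.comap_map_of_surjective' _ Ideal.Quotient.mk_surjective, Ideal.mk_ker]
    exact (sup_eq_left.2 hKq).symm
  have hqS : (q.map (Ideal.Quotient.mk (Ideal.span (Set.range fs)))).IsPrime :=
    Ideal.map_isPrime_of_surjective Ideal.Quotient.mk_surjective (by rwa [Ideal.mk_ker])
  have hmem : ∀ y, Ideal.Quotient.mk (Ideal.span (Set.range fs)) y ∈
      q.map (Ideal.Quotient.mk (Ideal.span (Set.range fs))) ↔ y ∈ q := by
    intro y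
    conv_rhs => rw [hcc]
    rw [Ideal.mem_comap]
  obtain ⟨u, hu, hux⟩ := RelLiftLoc.exists_mul_eq_zero
    (P' := MvPolynomial (Fin n) R') (P := MvPolynomial (Fin n) R)
    (S := MvPolynomial (Fin n) R ⧸ Ideal.span (Set.range fs))
    (MvPolynomial.map π) (MvPolynomial.map_surjective π hπ)
    Ideal.Quotient.mk_surjective (hasFiniteTorDim_quotient _ hfd) (MvPolynomial.C f) g
    (by rw [MvPolynomial.ker_map, hker, Ideal.map_span, Set.image_singleton])
    (q.map (Ideal.Quotient.mk (Ideal.span (Set.range fs))))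
    (fun h => hgq ((hmem _).1 h))
    ⟨Fin m, Finset.univ, r', f', fun j => (hmem _).2 (by
      apply hIq
      rw [hr', MvPolynomial.mem_map_C_iff]
      exact h1 j), fun j => by
        rw [hf']
        exact Ideal.Quotient.eq_zero_iff_mem.2 (Ideal.subset_span ⟨j, rfl⟩), hsum.symm⟩
  apply hu
  refine (hmem _).2 (hIq ?_)
  rw [MvPolynomial.mem_map_C_iff]
  intro d
  rw [MvPolynomial.coeff_map]
  refine Ideal.mem_map_of_mem _ ?_
  rw [Submodule.mem_annihilator_span_singleton]
  have h11 := congrArg (MvPolynomial.coeff d) hux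
  rw [mul_comm, MvPolynomial.coeff_C_mul, MvPolynomial.coeff_zero, mul_comm] at h11
  exact h11

end K310.RelLift
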