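import Groth.Agent.Models.CoreSurj
import Groth.Agent.Models.DiagSmooth2

/-!
A relation lift obstruction to finite Tor-dimension: the local statement.
-/

set_option autoImplicit false
universe u

open IsLocalRing

namespace K310.RelLiftLoc

open Groth.Agent.Models

/-- Let `P' → P → S` be surjective, `P'` Noetherian, the kernel of `P' → P` generated by `x` and `S` of
finite Tor-dimension over `P`. If for some prime `qS` of `S` with preimage `Q` in `P'` some multiple
`x * g`, `g ∉ Q`, lies in `Q * ker (P' → S)`, then `x` becomes zero in `P'_Q`. -/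
theorem exists_mul_eq_zero {P' P S : Type u} [CommRing P'] [CommRing P] [CommRing S]
    [IsNoetherianRing P'] [Algebra P S] (φ : P' →+* P) (hφ : Function.Surjective φ)
    (hμ : Function.Surjective (algebraMap P S)) (hfd : DRing.HasFiniteTorDim P S) (x g : P')
    (hx : RingHom.ker φ = Ideal.span {x}) (qS : Ideal S) [qS.IsPrime]
    (hgq : algebraMap P S (φ g) ∉ qS)
    (hxg : ∃ (ι : Type) (s : Finset ι) (a b : ι → P'), (∀ i, algebraMap P S (φ (a i)) ∈ qS) ∧
      (∀ i, algebraMap P S (φ (b i)) = 0) ∧ x * g = ∑ i ∈ s, a i * b i) :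
    ∃ u : P', algebraMap P S (φ u) ∉ qS ∧ u * x = 0 := by
  let μ : P →+* S := algebraMap P S
  let q : Ideal P := qS.comap μ
  have hq : q.IsPrime := Ideal.comap_isPrime μ qS
  let Q : Ideal P' := q.comap φ
  have hQ : Q.IsPrime := Ideal.comap_isPrime φ q
  let T := Localization.AtPrime Q
  let R1 := Localization.AtPrime q
  let S1 := Localization.AtPrime qS
  let aTR : Algebra T R1 := (Localization.localRingHom Q q φ rfl).toAlgebra
  let aRS : Algebra R1 S1 := (Localization.localRingHom q qS μ rfl).toAlgebra
  let aTS : Algebra T S1 := (Localization.localRingHom Q qS (μ.comp φ) rfl).toAlgebra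
  have hTR : ∀ x : P', algebraMap T R1 (algebraMap P' T x) = algebraMap P R1 (φ x) :=
    fun x => Localization.localRingHom_to_map _ _ _ _ _
  have hRS : ∀ x : P, algebraMap R1 S1 (algebraMap P R1 x) = algebraMap S S1 (μ x) :=
    fun x => Localization.localRingHom_to_map _ _ _ _ _
  have hTS : ∀ x : P', algebraMap T S1 (algebraMap P' T x) = algebraMap S S1 (μ (φ x)) :=
    fun x => Localization.localRingHom_to_map _ _ _ _ _
  have t1 : IsScalarTower T R1 S1 := IsScalarTower.of_algebraMap_eq' <| by
    apply IsLocalization.ringHom_ext Q.primeCompl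
    refine RingHom.ext fun x => ?_
    simp only [RingHom.comp_apply]
    rw [hTS, hTR, hRS]
  have hsTR : Function.Surjective (algebraMap T R1) :=
    DiagSmooth2.localRingHom_surjective _ _ _ _ hφ
  have hsRS : Function.Surjective (algebraMap R1 S1) :=
    DiagSmooth2.localRingHom_surjective _ _ _ _ hμ
  have hkTR : RingHom.ker (algebraMap T R1) = (RingHom.ker φ).map (algebraMap P' T) :=
    DiagSmooth2.ker_localRingHom _ _ _ _ hφ
  have hfd1 : DRing.HasFiniteTorDim R1 S1 := by
    have t7 : IsScalarTower P R1 S1 := IsScalarTower.of_algebraMap_eq fun x => by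
      rw [hRS, IsScalarTower.algebraMap_apply P S S1]
    have il : IsLocalizedModule q.primeCompl (IsScalarTower.toAlgHom P S S1).toLinearMap := by
      rw [isLocalizedModule_iff_isLocalization]
      have : Algebra.algebraMapSubmonoid S q.primeCompl = qS.primeCompl :=
        DiagSmooth2.map_primeCompl_eq q qS μ rfl hμ
      rw [this]
      infer_instance
    exact TorLoc.hasFiniteTorDim_of_isLocalizedModule (B := R1) q.primeCompl
      (IsScalarTower.toAlgHom P S S1).toLinearMap hfd
  have hNT : IsNoetherianRing T := IsLocalization.isNoetherianRing Q.primeCompl _ inferInstance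
  set y : T := algebraMap P' T x with hy
  have hxR : y ∈ RingHom.ker (algebraMap T R1) := by
    rw [hkTR, hx]
    exact Ideal.mem_map_of_mem _ (Ideal.mem_span_singleton_self _)
  have hgu : IsUnit (algebraMap P' T g) := IsLocalization.map_units T (⟨g, hgq⟩ : Q.primeCompl)
  obtain ⟨ι, s, a, b, ha, hb, hab⟩ := hxg
  have hxm : y ∈ maximalIdeal T * RingHom.ker (algebraMap T S1) := by
    have h5 : y * algebraMap P' T g ∈ maximalIdeal T * RingHom.ker (algebraMap T S1) := by
      rw [hy, ← map_mul, hab, map_sum]
      refine Ideal.sum_mem _ fun j _ => ?_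
      rw [map_mul]
      refine Ideal.mul_mem_mul ?_ ?_
      · rw [IsLocalization.AtPrime.to_map_mem_maximal_iff T Q]
        exact ha j
      · rw [RingHom.mem_ker, hTS]
        change algebraMap S S1 (algebraMap P S (φ (b j))) = 0
        rw [hb, map_zero]
    exact (Ideal.mul_unit_mem_iff_mem _ hgu).1 h5
  have h6 := CoreSurj.mem_maximalIdeal_mul_ker hsTR hsRS hfd1 y hxR hxm
  have hx0 : y = 0 := by
    rw [hkTR, hx, Ideal.map_span, Set.image_singleton, ← hy, Ideal.mem_mul_span_singleton] at h6
    obtain ⟨a, ha, hax⟩ := h6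
    have h7 : (1 - a) * y = 0 := by rw [sub_mul, one_mul, hax, sub_self]
    have h8 : IsUnit (1 - a) := by
      by_contra h9
      have h10 : (1 - a) ∈ maximalIdeal T := h9
      exact (Ideal.ne_top_iff_one _).1 (maximalIdeal.isMaximal T).ne_top
        (by simpa using Ideal.add_mem _ h10 ha)
    exact (h8.mul_right_eq_zero).1 h7
  rw [hy, IsLocalization.map_eq_zero_iff Q.primeCompl T] at hx0
  obtain ⟨⟨u, hu⟩, hux⟩ := hx0
  exact ⟨u, hu, hux⟩

end K310.RelLiftLoc
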